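import Cfsg.Agent.Lib.SteinbergChar.DefectZero
import Cfsg.Prelude.Def_ParabolicCharacters

/-!
The scalar action of the Hecke operators on a fixed line, and inner products with permutation
characters.
-/

set_option autoImplicit false

namespace CfsgLib.SteinbergChar.DefectZero

open Matrix
open scoped Classical ComplexConjugate

variable {G : Type*} [Group G] [Fintype G] {n : ℕ} (R : G →* Mt n) (U : Subgroup G)

/-- The scalar of `g` on the line fixed by `U`. -/
noncomputable def phi (g : G) : ℂ := (avg R U * R g).trace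

/-- The fixed space is a line. -/
structure IsLine : Prop where
  scal : ∀ A : Mt n, avg R U * A * avg R U = (avg R U * A).trace • avg R U
  one : (avg R U).trace = 1

variable {R U} (hL : IsLine R U)

include hL

theorem IsLine.eq (g : G) : avg R U * R g * avg R U = phi R U g • avg R U := hL.scal (R g)

theorem IsLine.phi_eq {g : G} {c : ℂ} (h : avg R U * R g * avg R U = c • avg R U) : phi R U g = c := by
  have := congrArg Matrix.trace ((hL.eq g).symm.trans h)
  simpa [Matrix.trace_smul, hL.one] using this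

theorem IsLine.phi_one : phi R U 1 = 1 := by
  rw [phi, map_one, mul_one, hL.one]

theorem IsLine.phi_mul_left {a : G} (ha : a ∈ U) (g : G) : phi R U (a * g) = phi R U g := by
  rw [phi, phi, map_mul, ← mul_assoc, avg_R R U ha]

theorem IsLine.phi_mul_right {b : G} (hb : b ∈ U) (g : G) : phi R U (g * b) = phi R U g := by
  refine hL.phi_eq ?_
  rw [map_mul, ← mul_assoc, mul_assoc _ (R b), R_avg R U hb, hL.eq]

theorem IsLine.phi_normal_left {d : G} (hd : d ∈ Subgroup.normalizer (U : Set G)) (g : G) :
    phi R U (d * g) = phi R U d * phi R U g := by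
  refine hL.phi_eq ?_
  have h1 : avg R U * R d = phi R U d • avg R U := by
    rw [← hL.eq, mul_assoc, avg_commute R U hd, ← mul_assoc, avg_mul_avg]
  rw [map_mul, ← mul_assoc, h1, smul_mul_assoc, smul_mul_assoc, hL.eq, smul_smul]

theorem IsLine.phi_normal_right {d : G} (hd : d ∈ Subgroup.normalizer (U : Set G)) (g : G) :
    phi R U (g * d) = phi R U g * phi R U d := by
  refine hL.phi_eq ?_
  have h1 : R d * avg R U = phi R U d • avg R U := by
    rw [← hL.eq, ← avg_commute R U hd, mul_assoc, avg_mul_avg]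
  rw [map_mul, ← mul_assoc, mul_assoc _ (R d), h1, mul_smul_comm, hL.eq, smul_smul, mul_comm]

theorem IsLine.phi_mul_phi (g g' : G) :
    phi R U g * phi R U g' = (Nat.card U : ℂ)⁻¹ * ∑ u : U, phi R U (g * u * g') := by
  have h1 : avg R U * R g * avg R U * (avg R U * R g' * avg R U) =
      (phi R U g * phi R U g') • avg R U := by
    rw [hL.eq, hL.eq, smul_mul_assoc, mul_smul_comm, avg_mul_avg, smul_smul]
  have h2 : avg R U * R g * avg R U * (avg R U * R g' * avg R U) =
      ((Nat.card U : ℂ)⁻¹ * ∑ u : U, phi R U (g * u * g')) • avg R U := by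
    rw [show avg R U * R g * avg R U * (avg R U * R g' * avg R U) =
      avg R U * R g * (avg R U * avg R U) * R g' * avg R U by simp only [mul_assoc], avg_mul_avg]
    conv_lhs => arg 1; arg 1; arg 2; rw [avg]
    rw [Finset.mul_sum, Finset.sum_smul, mul_smul_comm, smul_mul_assoc, smul_mul_assoc, Finset.mul_sum,
      Finset.sum_mul, Finset.sum_mul, Finset.smul_sum]
    refine Finset.sum_congr rfl fun u _ => ?_
    rw [← smul_smul (Nat.card U : ℂ)⁻¹ (phi R U (g * u * g')) (avg R U), ← hL.eq (g * u * g')]
    simp only [map_mul, mul_assoc]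
  have := congrArg Matrix.trace (h1.symm.trans h2)
  simpa [Matrix.trace_smul, hL.one] using this

theorem IsLine.trace_T (g : G) :
    (T R U g).trace = (Nat.card U : ℂ) / (Nat.card (stab U g) : ℂ) * phi R U g := by
  rw [T, Matrix.trace_smul, hL.eq, Matrix.trace_smul, hL.one, smul_eq_mul, smul_eq_mul, mul_one]

/-- A multiple of the scalar is an algebraic integer. -/
theorem IsLine.isIntegral {g : G} {S : Subgroup G} (hS : S ≤ stab U g) :
    IsIntegral ℤ ((Nat.card U : ℂ) / (Nat.card S : ℂ) * phi R U g) := by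
  obtain ⟨t, ht⟩ := Subgroup.card_dvd_of_le hS
  have hS0 : (Nat.card S : ℂ) ≠ 0 := Nat.cast_ne_zero.2 Nat.card_pos.ne'
  have e : (Nat.card U : ℂ) / (Nat.card S : ℂ) * phi R U g = (t : ℂ) * (T R U g).trace := by
    rw [hL.trace_T, ht, Nat.cast_mul]
    have ht0 : (t : ℂ) ≠ 0 := Nat.cast_ne_zero.2 fun h => by
      rw [h, mul_zero] at ht
      exact Nat.card_pos.ne' ht
    field_simp
  rw [e]
  exact (map_natCast (algebraMap ℤ ℂ) t ▸ isIntegral_algebraMap).mul (isHecke_T R U g).trace_isIntegral

theorem IsLine.avg_eq {K : Subgroup G} (hK : U ≤ K) :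
    avg R K = (avg R K).trace • avg R U ∧ ((avg R K).trace = 0 ∨ avg R K = avg R U) := by
  have h1 : ∀ u : U, R u * avg R K = avg R K := fun u => R_avg R K (hK u.2)
  have h2 : ∀ u : U, avg R K * R u = avg R K := fun u => avg_R R K (hK u.2)
  have hcard : (Nat.card U : ℂ) ≠ 0 := card_ne_zero U
  have hl : avg R U * avg R K = avg R K := by
    conv_lhs => arg 1; rw [avg]
    rw [smul_mul_assoc, Finset.sum_mul, Finset.sum_congr rfl fun u _ => h1 u, Finset.sum_const,
      Finset.card_univ, ← Nat.card_eq_fintype_card, ← Nat.cast_smul_eq_nsmul ℂ, smul_smul,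
      inv_mul_cancel₀ hcard, one_smul]
  have hr : avg R K * avg R U = avg R K := by
    conv_lhs => arg 2; rw [avg]
    rw [mul_smul_comm, Finset.mul_sum, Finset.sum_congr rfl fun u _ => h2 u, Finset.sum_const,
      Finset.card_univ, ← Nat.card_eq_fintype_card, ← Nat.cast_smul_eq_nsmul ℂ, smul_smul,
      inv_mul_cancel₀ hcard, one_smul]
  have heq := hL.scal (avg R K)
  rw [hl, hr] at heq
  refine ⟨heq, ?_⟩
  have h3 : (avg R K).trace * (avg R K).trace = (avg R K).trace := by
    have h4 := congrArg Matrix.trace (avg_mul_avg R K)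
    nth_rewrite 1 [heq] at h4
    rw [smul_mul_assoc, hl, Matrix.trace_smul, smul_eq_mul] at h4
    exact h4
  rcases mul_eq_zero.1 (show (avg R K).trace * ((avg R K).trace - 1) = 0 by linear_combination h3) with h | h
  · exact Or.inl h
  · exact Or.inr (by rw [heq, sub_eq_zero.1 h, one_smul])

omit hL in
theorem sum_fixed_mul (K : Subgroup G) (R : G →* Mt n) :
    ∑ g : G, Cfsg.fixedPointCharacter K g * (R g).trace =
      (Nat.card G : ℂ) * (avg R K).trace := by
  have := Fintype.ofFinite (G ⧸ K)
  have h1 : ∀ g : G, Cfsg.fixedPointCharacter K g = ∑ x : G ⧸ K, if g • x = x then (1 : ℂ) else 0 := by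
    intro g
    rw [Finset.sum_boole, Cfsg.fixedPointCharacter, Nat.card_eq_fintype_card]
    congr 1
    exact Fintype.card_ofFinset _ _
  simp only [h1, Finset.sum_mul, ite_mul, one_mul, zero_mul]
  rw [Finset.sum_comm]
  have h2 : ∀ x : G ⧸ K, (∑ g : G, if g • x = x then (R g).trace else 0) = ∑ k : K, (R k).trace := by
    intro x
    induction x using QuotientGroup.induction_on with | _ y => ?_
    rw [← Finset.sum_filter]
    have hiff : ∀ g : G, g • (y : G ⧸ K) = y ↔ y⁻¹ * g * y ∈ K := fun g => by
      rw [eq_comm, MulAction.Quotient.smul_mk, QuotientGroup.eq, smul_eq_mul, mul_assoc]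
    refine Finset.sum_bij' (fun g hg => (⟨y⁻¹ * g * y, (hiff g).1 (Finset.mem_filter.1 hg).2⟩ : K))
      (fun k _ => y * k * y⁻¹) (fun _ _ => Finset.mem_univ _) ?_ ?_ ?_ ?_
    · intro k _
      rw [Finset.mem_filter, hiff]
      exact ⟨Finset.mem_univ _, by simp [mul_assoc]⟩
    · intro g _; simp [mul_assoc]
    · intro k _; exact Subtype.ext (by simp [mul_assoc])
    · intro g _
      simp only [map_mul]
      rw [Matrix.trace_mul_comm, ← mul_assoc, ← map_mul, mul_inv_cancel, map_one, one_mul]
  rw [Finset.sum_congr rfl fun x _ => h2 x, Finset.sum_const, Finset.card_univ, nsmul_eq_mul, avg,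
    Matrix.trace_smul, Matrix.trace_sum, smul_eq_mul, ← Subgroup.card_mul_index K, Subgroup.index,
    ← Nat.card_eq_fintype_card, Nat.cast_mul]
  have : (Nat.card K : ℂ) ≠ 0 := card_ne_zero K
  field_simp

end CfsgLib.SteinbergChar.DefectZero
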