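import Cfsg.Agent.Lib.SteinbergChar.Norm
import Cfsg.Agent.Lib.SteinbergChar.Scalar

/-!
The Steinberg character is the only irreducible character of defect zero.
-/

set_option autoImplicit false

namespace CfsgLib.SteinbergChar

open Cfsg.Lie CfsgLib.ChevStr CfsgLib.ChevStr.ChevCore CfsgLib.KnownSimple
open scoped Classical MatrixGroups ComplexConjugate

variable {D : ChevalleyDatum} {F : Type*} [Field F] (C : ChevCore D F)

/-- `U` inside the group. -/
abbrev UG (D : ChevalleyDatum) (F : Type*) [Field F] : Subgroup ↥(D.group F) :=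
  (D.posUnipotent F).subgroupOf (D.group F)

/-- `H` inside the group. -/
abbrev HG (D : ChevalleyDatum) (F : Type*) [Field F] : Subgroup ↥(D.group F) :=
  (D.diagonalSubgroup F).subgroupOf (D.group F)

include C

theorem hg_le_normalizer : HG D F ≤ Subgroup.normalizer (UG D F : Set ↥(D.group F)) := by
  intro h hh
  have hn := C.diagonal_normalizes_pos hh
  exact Subgroup.mem_normalizer_iff.2 fun g => Subgroup.mem_normalizer_iff.1 hn (g : GL D.Idx F)

theorem hg_comm : ∀ a ∈ HG D F, ∀ b ∈ HG D F, a * b = b * a := by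
  intro a ha b hb
  rw [Subgroup.mem_subgroupOf, C.diagonalSubgroup_eq] at ha hb
  obtain ⟨c, hc⟩ := ha
  obtain ⟨d, hd⟩ := hb
  refine Subtype.ext ?_
  rw [Subgroup.coe_mul, Subgroup.coe_mul, ← hc, ← hd, ← map_mul, ← map_mul, mul_comm]

/-- The longest element as a member of the group. -/
noncomputable def n0G : ↥(D.group F) :=
  ⟨nw C (w0 C (Finset.range D.rank)), nw_mem_group C (WS_le C.hR _ (w0_mem C _))⟩

theorem w0_apply_neg {s : Fin D.nroots} (hs : D.IsPosRoot s) :
    D.IsNegRoot (w0 C (Finset.range D.rank) s) :=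
  negOn_apply C.hR (WS_le C.hR _ (w0_mem C _)) (w0_neg C _) hs fun m hm =>
    absurd (Finset.mem_range.2 m.isLt) hm

theorem stab_n0 [Fintype ↥(D.group F)] : DefectZero.stab (UG D F) (n0G C) = ⊥ := by
  refine (Subgroup.eq_bot_iff_forall _).2 fun s hs => Subtype.ext ?_
  obtain ⟨h1, h2⟩ := DefectZero.mem_stab.1 hs
  rw [Subgroup.mem_subgroupOf] at h1 h2
  set n := nw C (w0 C (Finset.range D.rank)) with hn
  have hwW := WS_le C.hR (Finset.range D.rank) (w0_mem C _)
  have h3 : n⁻¹ * (s : GL D.Idx F) * n ∈ D.negUnipotent F := by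
    have hmv := Moves.inv C (nw_mem C hwW) (nw_moves C hwW)
    rw [negOn_inv C.hR (w0_mem C _) (w0_neg C _)] at hmv
    have := C.conj_invRoots_mem_neg hmv (s : GL D.Idx F) (by rw [Ucl_w0_range C]; exact h1)
    rwa [inv_inv] at this
  have h4 : n⁻¹ * (s : GL D.Idx F) * n = 1 := (Subgroup.eq_bot_iff_forall _).1 C.borel_inf_negUnipotent _
    (Subgroup.mem_inf.2 ⟨le_sup_left (b := D.diagonalSubgroup F) h2, h3⟩)
  calc (s : GL D.Idx F) = n * (n⁻¹ * (s : GL D.Idx F) * n) * n⁻¹ := by group
    _ = _ := by rw [h4, OneMemClass.coe_one]; group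

theorem big_cell [Fintype ↥(D.group F)] (g : ↥(D.group F)) (hg : DefectZero.stab (UG D F) g = ⊥) :
    ∃ a ∈ UG D F, ∃ h ∈ HG D F, ∃ b ∈ UG D F, g = a * (n0G C * h) * b := by
  obtain ⟨w, hw, b, hb, n, hn, hnw, u, hu, hgbnu⟩ := C.normalForm_exists g.2
  set A := Finset.range D.rank with hA
  have huU : u ∈ D.posUnipotent F :=
    C.Ucl_le (fun r hr t => C.xGL_mem_posUnipotent (C.hR.mem_invSet.1 hr.2).1 t) hu
  have hww : w = w0 C A := by
    refine negOn_unique C.hR (by rw [hA, WS_range]; exact hw) (w0_mem C A) (fun i _ => ?_) (w0_neg C A)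
    refine (pos_or_negOn C.hR i).resolve_left fun hp => ?_
    obtain ⟨t, ht⟩ := hnw.2 (sroot C.R i) 1
    set y := b * (n * C.xGL (D.simple i.val) 1 * n⁻¹) * b⁻¹ with hy
    have hyU : y ∈ D.posUnipotent F := by
      refine (Subgroup.mem_normalizer_iff.1 (C.borel_normalizes hb) _).1 ?_
      rw [show n * C.xGL (D.simple i.val) 1 * n⁻¹ = C.xGL (w (sroot C.R i)) t from ht]
      exact C.xGL_mem_posUnipotent hp t
    have hmem : (⟨y, pos_le_group C hyU⟩ : ↥(D.group F)) ∈ DefectZero.stab (UG D F) g := by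
      refine DefectZero.mem_stab.2 ⟨hyU, ?_⟩
      rw [Subgroup.mem_subgroupOf]
      show (g : GL D.Idx F)⁻¹ * y * g ∈ D.posUnipotent F
      rw [hgbnu, hy, show (b * n * u)⁻¹ * (b * (n * C.xGL (D.simple i.val) 1 * n⁻¹) * b⁻¹) * (b * n * u) =
        u⁻¹ * C.xGL (D.simple i.val) 1 * u by group]
      exact mul_mem (mul_mem (inv_mem huU) (C.xGL_mem_posUnipotent (C.R.simple_pos i) 1)) huU
    rw [hg, Subgroup.mem_bot] at hmem
    have h1 : y = 1 := congrArg Subtype.val hmem
    rw [hy, mul_inv_eq_one, mul_eq_left, mul_inv_eq_one, mul_eq_left] at h1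
    exact one_ne_zero ((C.xGL_eq_one_iff (C.R.simple_lt i)).1 h1)
  subst hww
  have hwW := WS_le C.hR A (w0_mem C A)
  obtain ⟨v, hv, c, hbc⟩ := C.mem_borel.1 hb
  set h := (nw C (w0 C A))⁻¹ * (C.R.torus c * n) with hh
  have hhH : h ∈ D.diagonalSubgroup F := by
    refine C.mem_diagonal_of_moves_one (mul_mem (inv_mem (nw_mem C hwW))
      (mul_mem (C.torus_mem_monomial c) hn)) ?_
    simpa using Moves.mul C (Moves.inv C (nw_mem C hwW) (nw_moves C hwW))
      (Moves.mul C (C.moves_torus c) hnw)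
  have hhG : h ∈ D.group F := C.borel_le_group (diagonal_le_borel hhH)
  refine ⟨⟨v, pos_le_group C hv⟩, hv, ⟨h, hhG⟩, hhH, ⟨u, pos_le_group C huU⟩, huU, Subtype.ext ?_⟩
  show (g : GL D.Idx F) = v * (nw C (w0 C A) * h) * u
  rw [hgbnu, hbc, hh]
  group

theorem pos_decomp (i : Fin D.rank) {u : GL D.Idx F} (hu : u ∈ D.posUnipotent F) :
    ∃ v ∈ C.Usub i, ∃ t, u = v * C.xGL (D.simple i.val) t := by
  obtain ⟨v, hv, t, c, huv⟩ := C.borel_decomp i (le_sup_left (b := D.diagonalSubgroup F) hu)
  have hc : C.R.torus c = 1 := by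
    refine (Subgroup.eq_bot_iff_forall _).1 C.posUnipotent_inf_diagonal _ (Subgroup.mem_inf.2
      ⟨?_, by rw [C.diagonalSubgroup_eq]; exact ⟨c, rfl⟩⟩)
    rw [show C.R.torus c = (v * C.xGL (D.simple i.val) t)⁻¹ * u by rw [huv, inv_mul_cancel_left]]
    exact mul_mem (inv_mem (mul_mem (C.Usub_le i hv) (C.xGL_mem_posUnipotent (C.R.simple_pos i) t))) hu
  exact ⟨v, hv, t, by rw [huv, hc, mul_one]⟩

/-- `U` is the product of `U_p` and `X_p`. -/
theorem pos_bijective [Finite F] (i : Fin D.rank) :
    Function.Bijective fun x : C.Usub i × F => (⟨(x.1 : GL D.Idx F) * C.xGL (D.simple i.val) x.2,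
      mul_mem (C.Usub_le i x.1.2) (C.xGL_mem_posUnipotent (C.R.simple_pos i) x.2)⟩ : D.posUnipotent F) := by
  have := Fintype.ofFinite F
  refine (Nat.bijective_iff_surjective_and_card _).2 ⟨fun u => ?_, ?_⟩
  · obtain ⟨v, hv, t, e⟩ := pos_decomp C i u.2
    exact ⟨(⟨v, hv⟩, t), Subtype.ext e.symm⟩
  · rw [Nat.card_prod, Usub, C.card_Ucl (C.R.isClosed_ne_simple i), C.posUnipotent_eq,
      C.card_Ucl C.R.isClosed_pos, Nat.card_eq_fintype_card, ← pow_succ]
    congr 1
    have hfin : {r | D.IsPosRoot r}.Finite := (Set.finite_Iio D.nroots).subset fun r hr => hr.1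
    rw [← Set.ncard_sdiff_singleton_add_one (s := {r | D.IsPosRoot r}) (C.R.simple_pos i) hfin]
    rfl

/-- The Steinberg character is the only irreducible character of `p`-defect zero. -/
theorem eq_steinberg_of_defect_zero [Fintype F] (p : ℕ) [Fact p.Prime] [CharP F p]
    {χ : ↥(D.group F) → ℂ} (hχ : Cfsg.IsIrrCharacter ↥(D.group F) χ)
    (hdeg : ∃ d : ℕ, χ 1 = (d : ℂ) ∧ p ^ (Nat.card ↥(D.group F)).factorization p ∣ d) :
    χ = D.steinbergCharacter F := by
  have := Fintype.ofFinite (D.group F)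
  have hp := (Fact.out : p.Prime)
  obtain ⟨n, M, hn, hMtr⟩ := CfsgLib.Chars17.IsIrrCharacter.exists_mat hχ
  obtain rfl : χ = fun g => (M g).trace := (funext hMtr).symm
  obtain ⟨d, hd, hdvd⟩ := hdeg
  have hdn : d = n := by
    have : ((n : ℕ) : ℂ) = (d : ℂ) := by
      rw [← hd]
      show (n : ℂ) = (M 1).trace
      rw [map_one, Matrix.trace_one, Fintype.card_fin]
    exact_mod_cast this.symm
  subst hdn
  set U := UG D F with hUdef
  have hUcard : Nat.card U = p ^ (Nat.card ↥(D.group F)).factorization p := by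
    rw [hUdef, Nat.card_congr (Subgroup.subgroupOfEquivOfLe (pos_le_group C)).toEquiv, card_posUnipotent C,
      factorization_card_group C p]
  have hU : IsPGroup p U := IsPGroup.of_card hUcard
  have hvan : ∀ g : ↥(D.group F), p ∣ orderOf g → (M g).trace = 0 := by
    intro g hg
    refine CfsgLib.DefectZeroVanish.vanish_of_defect_zero
      (⟨_, hχ⟩ : Cfsg.IrrCharacter ↥(D.group F)) ?_ hg
    rwa [show Cfsg.charDegree (fun g => (M g).trace) = d by
      simp only [Cfsg.charDegree]; rw [show (M 1).trace = (d : ℂ) from hd]; simp]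
  obtain ⟨c, hc⟩ := hdvd
  rw [← hUcard] at hc
  have htr : (DefectZero.avg M U).trace = (c : ℂ) := by
    rw [DefectZero.avg, Matrix.trace_smul, Matrix.trace_sum, Finset.sum_eq_single (1 : U)]
    · rw [OneMemClass.coe_one, show (M 1).trace = (d : ℂ) from hd, hc, Nat.cast_mul, smul_eq_mul,
        ← mul_assoc, inv_mul_cancel₀ (DefectZero.card_ne_zero U), one_mul]
    · intro u _ hu
      refine hvan _ ?_
      obtain ⟨k, hk⟩ := IsPGroup.iff_orderOf.1 hU u
      rw [Subgroup.orderOf_coe, hk]
      exact dvd_pow_self p fun h0 => hu (orderOf_eq_one_iff.1 (by rw [hk, h0, pow_zero]))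
    · intro h; exact absurd (Finset.mem_univ _) h
  have hc0 : 0 < c := Nat.pos_of_ne_zero fun h => by rw [hc, h, mul_zero] at hn; omega
  obtain ⟨k, hk⟩ : d ∣ Nat.card ↥(D.group F) := by
    obtain ⟨m, ρ, hρ, hchar⟩ := hχ
    have := hρ
    have h1 : (m : ℂ) = (d : ℂ) := by
      rw [← hd]
      show _ = (M 1).trace
      rw [← congrFun hchar 1, Representation.char_one, Module.finrank_fin_fun]
    rw [← Nat.cast_inj.1 h1]
    have := CfsgLib.CharScalar.finrank_dvd_card ρ
    rwa [Module.finrank_fin_fun] at this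
  have hpk : ¬ p ∣ k := by
    intro hdiv
    have h1 : p ^ ((Nat.card ↥(D.group F)).factorization p + 1) ∣ Nat.card ↥(D.group F) := by
      have h2 : p ^ (Nat.card ↥(D.group F)).factorization p * p ∣ d * k :=
        mul_dvd_mul (by rw [hc, hUcard]; exact dvd_mul_right _ _) hdiv
      rw [← pow_succ] at h2
      exact h2.trans (dvd_of_eq hk.symm)
    exact Nat.pow_succ_factorization_not_dvd Nat.card_pos.ne' hp h1
  obtain ⟨hc1, hscal, z0, y0, hz0, hy0, hkeq⟩ := DefectZero.line (p := p) (H := HG D F) M U hχ hn hU htr hc0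
    hk hpk (hg_comm C) (hg_le_normalizer C) (n0G C) (stab_n0 C) (big_cell C)
  have hL : DefectZero.IsLine M U := ⟨hscal, by rw [htr, hc1, Nat.cast_one]⟩
  have htor : ∀ c, C.R.torus c ∈ D.group F := fun c => C.borel_le_group (C.torus_mem_borel c)
  have hx : ∀ r t, C.xGL r t ∈ D.group F := C.xGL_mem_group
  have hnorm : ∀ c, (⟨C.R.torus c, htor c⟩ : ↥(D.group F)) ∈ Subgroup.normalizer (U : Set ↥(D.group F)) :=
    fun c => hg_le_normalizer C (by
      rw [Subgroup.mem_subgroupOf, C.diagonalSubgroup_eq]; exact ⟨c, rfl⟩)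
  let lam : (Fin D.rank → Fˣ) →* ℂ :=
    { toFun := fun c => DefectZero.phi M U ⟨C.R.torus c, htor c⟩
      map_one' := by
        rw [show (⟨C.R.torus (1 : Fin D.rank → Fˣ), htor 1⟩ : ↥(D.group F)) = 1 from
          Subtype.ext (map_one _), hL.phi_one]
      map_mul' := fun a b => by
        rw [← hL.phi_normal_left (hnorm a)]
        exact congrArg (DefectZero.phi M U) (Subtype.ext (map_mul C.R.torus a b)) }
  -- the operators of the fundamental reflections
  have key : ∀ i : Fin D.rank, (∀ c : Fˣ, lam (Pi.mulSingle i c) = 1) ∧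
      (DefectZero.phi M U (C.nSG i) ≠ 1) := by
    intro i
    set q := Fintype.card F with hq
    have hq0 : (q : ℂ) ≠ 0 := Nat.cast_ne_zero.2 Fintype.card_pos.ne'
    have hqp : ∃ t : ℕ, q = p * t := by
      obtain ⟨e, -, he⟩ := FiniteField.card F p
      exact (dvd_pow_self p e.ne_zero).trans (dvd_of_eq he.symm)
    set nn := C.nSG i with hnn
    set n'' := nn⁻¹ * n0G C with hn''
    set A := Finset.range D.rank with hA
    have hwW := WS_le C.hR A (w0_mem C A)
    have hposX : ∀ t, (⟨C.xGL (D.simple i.val) t, hx _ t⟩ : ↥(D.group F)) ∈ U := fun t =>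
      C.xGL_mem_posUnipotent (C.R.simple_pos i) t
    -- conjugation of `X_p` by `n''`
    have hXconj : ∀ t, n''⁻¹ * ⟨C.xGL (D.simple i.val) t, hx _ t⟩ * n'' ∈ U := by
      intro t
      rw [Subgroup.mem_subgroupOf]
      have hmv := Moves.mul C (Acts.moves C (Acts.inv C (C.acts_nS i))) (nw_moves C hwW)
      obtain ⟨v, hv⟩ := (Moves.inv C (mul_mem (inv_mem (C.nS_mem_monomial i)) (nw_mem C hwW)) hmv).2
        (C.pRoot i) t
      rw [inv_inv] at hv
      show ((C.nS i)⁻¹ * nw C (w0 C A))⁻¹ * C.xGL (D.simple i.val) t * ((C.nS i)⁻¹ * nw C (w0 C A)) ∈ _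
      rw [show ((C.nS i)⁻¹ * nw C (w0 C A))⁻¹ * C.xGL (D.simple i.val) t * ((C.nS i)⁻¹ * nw C (w0 C A)) =
        C.xGL _ v from hv]
      refine C.xGL_mem_posUnipotent ?_ v
      rw [mul_inv_rev, inv_inv, Equiv.Perm.mul_apply, negOn_inv C.hR (w0_mem C A) (w0_neg C A),
        C.sPerm_pRoot, show C.pNeg i = ⟨D.neg (C.pRoot i), C.R.neg_lt _ (C.pRoot i).isLt⟩ from rfl,
        C.hR.apply_neg hwW (C.pRoot i), C.R.isPos_neg_iff (w0 C A _).isLt]
      exact w0_apply_neg C (C.R.simple_pos i)
    -- conjugation of `U_p` by `n`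
    have hAconj : ∀ v ∈ C.Usub i, C.nS i * v * (C.nS i)⁻¹ ∈ D.posUnipotent F := fun v hv =>
      C.Usub_le i (C.nS_conj_Usub i v hv)
    have hAconj' : ∀ v ∈ C.Usub i, (C.nS i)⁻¹ * v * C.nS i ∈ D.posUnipotent F := by
      intro v hv
      obtain ⟨c, hc⟩ := C.nS_inv i
      have h1 := (Subgroup.mem_normalizer_iff.1 (C.diagonal_normalizes_pos (F := F)
        (show C.R.torus c ∈ D.diagonalSubgroup F by rw [C.diagonalSubgroup_eq]; exact ⟨c, rfl⟩)) _).1
        (hAconj v hv)
      rw [show C.nS i = (C.R.torus c)⁻¹ * (C.nS i)⁻¹ by rw [hc, inv_mul_cancel_left]] at h1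
      simpa [mul_assoc] using h1
    obtain ⟨E, hE⟩ : ∃ E : C.Usub i × F ≃ U, ∀ x, ((E x : ↥(D.group F)) : GL D.Idx F) =
        (x.1 : GL D.Idx F) * C.xGL (D.simple i.val) x.2 :=
      ⟨(Equiv.ofBijective _ (pos_bijective C i)).trans
        (Subgroup.subgroupOfEquivOfLe (pos_le_group C)).toEquiv.symm, fun x => rfl⟩
    have hcardU : Nat.card U = Nat.card (C.Usub i) * q := by
      rw [← Nat.card_congr E, Nat.card_prod, Nat.card_eq_fintype_card (α := F)]
    have hcU : (Nat.card (C.Usub i) : ℂ) ≠ 0 := Nat.cast_ne_zero.2 Nat.card_pos.ne'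
    -- the product with `n''`
    have hprod : DefectZero.phi M U nn * DefectZero.phi M U n'' = DefectZero.phi M U (n0G C) := by
      rw [hL.phi_mul_phi]
      have hterm : ∀ u : U, DefectZero.phi M U (nn * u * n'') = DefectZero.phi M U (n0G C) := by
        intro u
        obtain ⟨⟨v, t⟩, rfl⟩ := E.surjective u
        have e1 : nn * (E (v, t) : ↥(D.group F)) * n'' =
            (⟨C.nS i * (v : GL D.Idx F) * (C.nS i)⁻¹, pos_le_group C (hAconj _ v.2)⟩ : ↥(D.group F)) *
              (n0G C * (n''⁻¹ * ⟨C.xGL (D.simple i.val) t, hx _ t⟩ * n'')) := by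
          refine Subtype.ext ?_
          simp only [hn'', hnn, Subgroup.coe_mul, InvMemClass.coe_inv, hE]
          show C.nS i * _ * _ = _
          simp only [ChevCore.nSG]
          group
        rw [e1, hL.phi_mul_left (a := ⟨C.nS i * (v : GL D.Idx F) * (C.nS i)⁻¹, _⟩) (hAconj _ v.2),
          hL.phi_mul_right (hXconj t)]
      rw [Finset.sum_congr rfl fun u _ => hterm u, Finset.sum_const, Finset.card_univ,
        ← Nat.card_eq_fintype_card, nsmul_eq_mul, ← mul_assoc, inv_mul_cancel₀ (DefectZero.card_ne_zero U),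
        one_mul]
    -- integrality
    set a := (q : ℂ) * DefectZero.phi M U nn with ha
    have haint : IsIntegral ℤ a := by
      let S : Subgroup ↥(D.group F) := (C.Usub i).subgroupOf (D.group F)
      have hS : S ≤ DefectZero.stab U nn := fun s hs =>
        DefectZero.mem_stab.2 ⟨C.Usub_le i hs, hAconj' _ hs⟩
      have h := hL.isIntegral hS
      rwa [hcardU, Nat.card_congr (Subgroup.subgroupOfEquivOfLe ((C.Usub_le i).trans (pos_le_group C))).toEquiv,
        Nat.cast_mul, mul_div_cancel_left₀ _ hcU] at h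
    set b := (Nat.card (C.Usub i) : ℂ) * DefectZero.phi M U n'' with hb
    have hbint : IsIntegral ℤ b := by
      let f : F → ↥(D.group F) := fun t => ⟨C.xGL (D.simple i.val) t, hx _ t⟩
      let S : Subgroup ↥(D.group F) :=
        { carrier := Set.range f
          one_mem' := ⟨0, Subtype.ext (C.xGL_zero _)⟩
          mul_mem' := by
            rintro _ _ ⟨s, rfl⟩ ⟨t, rfl⟩
            exact ⟨s + t, Subtype.ext (C.xGL_add _ _ _)⟩
          inv_mem' := by
            rintro _ ⟨s, rfl⟩
            exact ⟨-s, Subtype.ext (C.xGL_inv _ _).symm⟩ }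
      have hScard : Nat.card S = q := by
        show Nat.card (Set.range f) = q
        rw [Nat.card_range_of_injective fun s t h => C.xGL_injective (C.R.simple_lt i) (congrArg Subtype.val h),
          Nat.card_eq_fintype_card]
      have hS : S ≤ DefectZero.stab U n'' := by
        rintro _ ⟨t, rfl⟩
        exact DefectZero.mem_stab.2 ⟨hposX t, hXconj t⟩
      have h := hL.isIntegral hS
      rwa [hcardU, hScard, Nat.cast_mul, mul_div_assoc, div_self hq0, mul_one] at h
    have hτ : (DefectZero.T M U (n0G C)).trace = a * b := by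
      rw [hL.trace_T, stab_n0 C, Subgroup.card_bot, Nat.cast_one, div_one, hcardU, Nat.cast_mul, ha, hb,
        ← hprod]
      ring
    -- `a` squared is no multiple of `p`
    have hsq : ∀ y : ℂ, IsIntegral ℤ y → a * a ≠ p * y := by
      intro y hy h
      refine DefectZero.not_eq_p_mul hp (k := k * k) (fun hd => (hp.dvd_mul.1 hd).elim hpk hpk)
        (y := y * (b * z0) * (b * z0) + 2 * a * b * z0 * y0 + p * y0 * y0) ?_ ?_
      · have h2 : IsIntegral ℤ (2 : ℂ) := by
          have := (isIntegral_algebraMap (R := ℤ) (A := ℂ) (x := 2))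
          simpa using this
        have hpint : IsIntegral ℤ (p : ℂ) := map_natCast (algebraMap ℤ ℂ) p ▸ isIntegral_algebraMap
        exact (((hy.mul (hbint.mul hz0)).mul (hbint.mul hz0)).add
          ((((h2.mul haint).mul hbint).mul hz0).mul hy0)).add ((hpint.mul hy0).mul hy0)
      · push_cast
        rw [hkeq, hτ]
        linear_combination (b * z0) * (b * z0) * h
    -- the quadratic relation
    obtain ⟨ck, hck⟩ := C.nS_mul_self_mem i
    have hx_neg : ∀ s : F, s ≠ 0 → ∃ c : Fˣ, C.nS i * C.xGL (D.simple i.val) s * (C.nS i)⁻¹ =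
        C.xGL (D.neg (D.simple i.val)) (-(c : F)⁻¹) := by
      intro s hs
      obtain ⟨u, hu⟩ := (Acts.moves C (C.acts_nS i)).2 (C.pRoot i) s
      rw [C.sPerm_pRoot] at hu
      have hu0 : u ≠ 0 := by
        intro h0
        rw [h0, C.xGL_zero, mul_inv_eq_one, mul_eq_left] at hu
        exact hs ((C.xGL_eq_one_iff (C.R.simple_lt i)).1 hu)
      exact ⟨(-Units.mk0 u hu0)⁻¹, by simpa [inv_neg, ChevCore.pRoot, ChevCore.pNeg] using hu⟩
    choose cz hcz using hx_neg
    let τu : Fˣ → Fˣ := fun s => cz (s : F) s.ne_zero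
    have hτinj : Function.Injective τu := by
      intro s s' h
      have h1 := hcz (s : F) s.ne_zero
      rw [show cz (s : F) s.ne_zero = τu s from rfl, h, ← hcz (s' : F) s'.ne_zero] at h1
      exact Units.ext (C.xGL_injective (C.R.simple_lt i) (mul_left_cancel (mul_right_cancel h1)))
    have hterm0 : DefectZero.phi M U (nn * ⟨C.xGL (D.simple i.val) 0, hx _ 0⟩ * nn) = lam ck :=
      congrArg (DefectZero.phi M U) (Subtype.ext (show C.nS i * C.xGL (D.simple i.val) 0 * C.nS i = C.R.torus ck by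
        rw [C.xGL_zero, mul_one, hck]))
    have hterm : ∀ s : Fˣ, DefectZero.phi M U (nn * ⟨C.xGL (D.simple i.val) (s : F), hx _ _⟩ * nn) =
        lam (Pi.mulSingle i (τu s)) * DefectZero.phi M U nn * lam ck := by
      intro s
      set c := τu s with hc'
      have hid : C.nS i * C.xGL (D.simple i.val) (s : F) * C.nS i =
          C.xGL (D.simple i.val) (-(c : F)⁻¹)⁻¹ * (C.R.torus (Pi.mulSingle i c) * C.nS i) *
            C.R.torus ck * ((C.R.torus ck)⁻¹ * C.xGL (D.simple i.val) (-(c : F)⁻¹)⁻¹ * C.R.torus ck) := by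
        rw [show C.nS i * C.xGL (D.simple i.val) (s : F) * C.nS i =
          C.nS i * C.xGL (D.simple i.val) (s : F) * (C.nS i)⁻¹ * (C.nS i * C.nS i) by group,
          hcz (s : F) s.ne_zero, ← hck, show cz (s : F) s.ne_zero = c from rfl,
          C.xGL_neg_eq _ (neg_ne_zero.2 (inv_ne_zero c.ne_zero))]
        have hn' : C.nGL (D.simple i.val) (-(-(c : F)⁻¹)⁻¹) = C.R.torus (Pi.mulSingle i c) * C.nS i := by
          rw [inv_neg, inv_inv, neg_neg]
          exact C.nGL_simple i c
        rw [hn']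
        group
      have hU1 : C.xGL (D.simple i.val) (-(c : F)⁻¹)⁻¹ ∈ D.posUnipotent F :=
        C.xGL_mem_posUnipotent (C.R.simple_pos i) _
      have hU2 : (C.R.torus ck)⁻¹ * C.xGL (D.simple i.val) (-(c : F)⁻¹)⁻¹ * C.R.torus ck ∈ D.posUnipotent F := by
        have := (Subgroup.mem_normalizer_iff.1 (inv_mem (C.diagonal_normalizes_pos (F := F)
          (show C.R.torus ck ∈ D.diagonalSubgroup F by rw [C.diagonalSubgroup_eq]; exact ⟨ck, rfl⟩))) _).1 hU1
        simpa using this
      rw [show (nn * ⟨C.xGL (D.simple i.val) (s : F), hx _ _⟩ * nn : ↥(D.group F)) =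
        ⟨_, hx (D.simple i.val) (-(c : F)⁻¹)⁻¹⟩ * (⟨_, htor (Pi.mulSingle i c)⟩ * nn) * ⟨_, htor ck⟩ *
          ⟨_, pos_le_group C hU2⟩ from Subtype.ext hid]
      rw [hL.phi_mul_right (b := ⟨_, pos_le_group C hU2⟩) hU2, hL.phi_normal_right (hnorm ck),
        hL.phi_mul_left (a := ⟨_, hx (D.simple i.val) _⟩) hU1, hL.phi_normal_left (hnorm _)]
      rfl
    have hquad : a * a = lam ck * ((q : ℂ) + a * ∑ c : Fˣ, lam (Pi.mulSingle i c)) := by
      have h1 : DefectZero.phi M U nn * DefectZero.phi M U nn = (q : ℂ)⁻¹ *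
          (lam ck + ∑ s : Fˣ, lam (Pi.mulSingle i (τu s)) * DefectZero.phi M U nn * lam ck) := by
        rw [hL.phi_mul_phi, ← E.sum_comp, Fintype.sum_prod_type]
        have : ∀ (v : C.Usub i) (t : F), DefectZero.phi M U (nn * (E (v, t) : ↥(D.group F)) * nn) =
            DefectZero.phi M U (nn * ⟨C.xGL (D.simple i.val) t, hx _ t⟩ * nn) := by
          intro v t
          rw [show nn * (E (v, t) : ↥(D.group F)) * nn =
            (⟨C.nS i * (v : GL D.Idx F) * (C.nS i)⁻¹, pos_le_group C (hAconj _ v.2)⟩ : ↥(D.group F)) *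
              (nn * ⟨C.xGL (D.simple i.val) t, hx _ t⟩ * nn) from Subtype.ext (by
              simp only [hnn, Subgroup.coe_mul, hE]
              show C.nS i * _ * C.nS i = _
              simp only [ChevCore.nSG]
              group)]
          exact hL.phi_mul_left (a := ⟨_, pos_le_group C (hAconj _ v.2)⟩) (hAconj _ v.2) _
        simp only [this, Finset.sum_const, Finset.card_univ, ← Nat.card_eq_fintype_card, nsmul_eq_mul]
        rw [hcardU, Nat.cast_mul]
        rw [← Finset.add_sum_erase _ _ (Finset.mem_univ (0 : F)), hterm0]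
        rw [Finset.sum_bij' (t := (Finset.univ : Finset Fˣ))
          (g := fun s => lam (Pi.mulSingle i (τu s)) * DefectZero.phi M U nn * lam ck)
          (fun t ht => Units.mk0 t (Finset.mem_erase.1 ht).1) (fun s _ => (s : F))
          (fun _ _ => Finset.mem_univ _) (fun s _ => Finset.mem_erase.2 ⟨s.ne_zero, Finset.mem_univ _⟩)
          (fun _ _ => rfl) (fun _ _ => Units.ext rfl)
          (fun t ht => hterm (Units.mk0 t (Finset.mem_erase.1 ht).1))]
        field_simp
        exact congrArg (lam ck + ·) (Finset.sum_congr rfl fun x _ => by ring)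
      rw [← Equiv.sum_comp (Equiv.ofBijective τu ((Finite.injective_iff_bijective).1 hτinj))
        (fun c => lam (Pi.mulSingle i c)), ha,
        show (q : ℂ) * DefectZero.phi M U nn * ((q : ℂ) * DefectZero.phi M U nn) = (q : ℂ) * q * (DefectZero.phi M U nn * DefectZero.phi M U nn) by ring, h1]
      simp only [Equiv.ofBijective_apply, ← Finset.sum_mul]
      field_simp
    obtain ⟨t, ht⟩ := hqp
    have hck_int : IsIntegral ℤ (lam ck) := by
      refine IsIntegral.of_pow (n := orderOf ck) (orderOf_pos ck) ?_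
      rw [← map_pow, pow_orderOf_eq_one, map_one]
      exact isIntegral_one
    have htint : IsIntegral ℤ (t : ℂ) := map_natCast (algebraMap ℤ ℂ) t ▸ isIntegral_algebraMap
    refine ⟨?_, fun h1 => hsq ((t : ℂ) * q) (htint.mul (map_natCast (algebraMap ℤ ℂ) q ▸ isIntegral_algebraMap))
      (by rw [ha, h1, mul_one, ht]; push_cast; ring)⟩
    let f : Fˣ →* ℂ := lam.comp (MonoidHom.mulSingle (fun _ : Fin D.rank => Fˣ) i)
    by_contra hne
    have hf : f ≠ 1 := fun h => hne fun c => DFunLike.congr_fun h c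
    have hsum : ∑ c : Fˣ, lam (Pi.mulSingle i c) = 0 := sum_hom_units_eq_zero f hf
    rw [hsum, mul_zero, add_zero, ht] at hquad
    exact hsq _ (hck_int.mul htint) (by rw [hquad]; push_cast; ring)
  -- the torus fixes the line
  have hlam : ∀ c, lam c = 1 := fun c => by
    rw [← Finset.univ_prod_mulSingle c, map_prod]
    exact Finset.prod_eq_one fun i _ => (key i).1 (c i)
  -- the averages over the parabolic subgroups
  have havg : ∀ J ∈ (Finset.range D.rank).powerset,
      (DefectZero.avg M ((P D F J).subgroupOf (D.group F))).trace = if J = ∅ then 1 else 0 := by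
    intro J hJ
    set K := (P D F J).subgroupOf (D.group F) with hKdef
    have hUK : U ≤ K := fun x hx => borel_le_P J (le_sup_left (b := D.diagonalSubgroup F) hx)
    split_ifs with hJ0
    · have hBstep : ∀ x : K, M x * DefectZero.avg M U = DefectZero.avg M U := by
        intro x
        have hxB : ((x : ↥(D.group F)) : GL D.Idx F) ∈ D.borelSubgroup F := by
          have := x.2
          subst hJ0
          simp only [hKdef, Subgroup.mem_subgroupOf, P_empty] at this
          exact this
        obtain ⟨u, hu, c, huc⟩ := C.mem_borel.1 hxB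
        rw [show (x : ↥(D.group F)) = ⟨u, pos_le_group C hu⟩ * ⟨C.R.torus c, htor c⟩ from Subtype.ext huc,
          map_mul, mul_assoc]
        have h2 : M ⟨C.R.torus c, htor c⟩ * DefectZero.avg M U = DefectZero.avg M U := by
          have h3 := hL.eq ⟨C.R.torus c, htor c⟩
          rw [← DefectZero.avg_commute M U (hnorm c), mul_assoc, DefectZero.avg_mul_avg] at h3
          rw [h3, show DefectZero.phi M U ⟨C.R.torus c, htor c⟩ = 1 from hlam c, one_smul]
        rw [h2, DefectZero.R_avg M U (x := ⟨u, pos_le_group C hu⟩) hu]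
      have h4 : DefectZero.avg M K * DefectZero.avg M U = DefectZero.avg M U := by
        conv_lhs => arg 1; rw [DefectZero.avg]
        rw [smul_mul_assoc, Finset.sum_mul, Finset.sum_congr rfl fun x _ => hBstep x, Finset.sum_const,
          Finset.card_univ, ← Nat.card_eq_fintype_card, ← Nat.cast_smul_eq_nsmul ℂ, smul_smul,
          inv_mul_cancel₀ (DefectZero.card_ne_zero K), one_smul]
      rcases (hL.avg_eq hUK).2 with h | h
      · exfalso
        have h5 := (hL.avg_eq hUK).1
        rw [h, zero_smul] at h5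
        rw [h5, zero_mul] at h4
        have := congrArg Matrix.trace h4
        rw [Matrix.trace_zero, hL.one] at this
        exact zero_ne_one this
      · rw [h, hL.one]
    · obtain ⟨j, hj⟩ := Finset.nonempty_iff_ne_empty.2 hJ0
      have hjl := Finset.mem_range.1 (Finset.mem_powerset.1 hJ hj)
      rcases (hL.avg_eq hUK).2 with h | h
      · exact h
      · refine absurd ?_ (key ⟨j, hjl⟩).2
        have hmem : C.nSG ⟨j, hjl⟩ ∈ K := C.nS_mem_parabolic (mem_fs.2 hj)
        have h1 := DefectZero.R_avg M K hmem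
        rw [h] at h1
        refine hL.phi_eq ?_
        rw [mul_assoc, h1, DefectZero.avg_mul_avg, one_smul]
  -- the inner product
  by_contra hne
  have horth : Cfsg.classInner (D.steinbergCharacter F) (fun g => (M g).trace) = 0 := by
    have := CfsgLib.Characters.classInner_irr (⟨_, isIrrCharacter_steinberg C⟩ : Cfsg.IrrCharacter ↥(D.group F))
      ⟨_, hχ⟩
    rw [if_neg (fun h => hne (congrArg Subtype.val h).symm)] at this
    exact this
  have hone : Cfsg.classInner (fun g => (M g).trace) (D.steinbergCharacter F) = 1 := by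
    rw [steinberg_eq_sum C, CfsgLib.Characters.classInner_sum_right]
    simp only [← Int.cast_smul_eq_zsmul ℂ, CfsgLib.Characters.classInner_smul_right, map_intCast]
    have hG : ∀ J, Cfsg.classInner (fun g => (M g).trace)
        (Cfsg.fixedPointCharacter ((P D F J).subgroupOf (D.group F))) =
        (DefectZero.avg M ((P D F J).subgroupOf (D.group F))).trace := by
      intro J
      have h := DefectZero.sum_fixed_mul ((P D F J).subgroupOf (D.group F)) M
      rw [Cfsg.classInner]
      rw [show ∑ g, (M g).trace * conj (Cfsg.fixedPointCharacter ((P D F J).subgroupOf (D.group F)) g) =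
        ∑ g, Cfsg.fixedPointCharacter ((P D F J).subgroupOf (D.group F)) g * (M g).trace from
        Finset.sum_congr rfl fun g _ => by rw [Cfsg.fixedPointCharacter, Complex.conj_natCast, mul_comm], h,
        ← mul_assoc, inv_mul_cancel₀ (Nat.cast_ne_zero.2 Nat.card_pos.ne'), one_mul]
    rw [Finset.sum_eq_single (∅ : Finset ℕ)]
    · simp [hG, havg ∅ (Finset.empty_mem_powerset _)]
    · intro J hJ hJne
      rw [hG, havg J hJ, if_neg hJne, mul_zero]
    · intro h; exact absurd (Finset.empty_mem_powerset _) h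
  rw [CfsgLib.Characters.classInner_conj_symm, horth, map_zero] at hone
  exact zero_ne_one hone

end CfsgLib.SteinbergChar
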