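import Cfsg.Agent.Lib.SteinbergChar.Cells
import Cfsg.Agent.Lib.KnownSimple.ChevPSylow
import Cfsg.Agent.Lib.ChevStr.Mem
import Cfsg.Agent.Lib.GLFlags.PermChar

/-!
The values of the Steinberg character on the Borel subgroup.
-/

set_option autoImplicit false

namespace CfsgLib.SteinbergChar

open Cfsg.Lie CfsgLib.ChevStr CfsgLib.ChevStr.ChevCore CfsgLib.KnownSimple
open scoped Classical MatrixGroups

variable {D : ChevalleyDatum} {F : Type*} [Field F] (C : ChevCore D F)

include C

theorem group_eq : D.group F = P D F (Finset.range D.rank) := by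
  refine le_antisymm (le_trans C.group_le_closure ((Subgroup.closure_le _).2 ?_)) (P_le_group C _)
  rintro x (hx | ⟨i, rfl⟩)
  · exact borel_le_P _ hx
  · exact C.nS_mem_parabolic (mem_fs.2 (Finset.mem_range.2 i.isLt))

theorem radical_range : D.unipotentRadical F ((Finset.range D.rank : Finset ℕ) : Set ℕ) = ⊥ := by
  rw [C.radical_eq, eq_bot_iff]
  refine C.Ucl_le fun r hr t => absurd (C.hR.inRootSub_iff.2 ⟨hr.1.1, fun i hi => ?_⟩) hr.2
  exact absurd (mem_fs.2 (Finset.mem_range.2 i.isLt)) hi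

theorem Ucl_w0_range : C.Ucl (C.hR.invRoots (w0 C (Finset.range D.rank))) = D.posUnipotent F := by
  rw [invRoots_w0, C.posUnipotent_eq]
  congr 1
  ext r
  refine ⟨fun h => h.1, fun h => ⟨h, C.hR.inRootSub_iff.2 ⟨h.1, fun i hi => ?_⟩⟩⟩
  exact absurd (mem_fs.2 (Finset.mem_range.2 i.isLt)) hi

/-- The value on the Borel subgroup: the cosets of the diagonal subgroup fixed inside it. -/
theorem steinberg_borel [Finite F] (y : D.group F) (hy : (y : GL D.Idx F) ∈ D.borelSubgroup F) :
    D.steinbergCharacter F y =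
      (Nat.card {u : D.posUnipotent F //
        (u : GL D.Idx F) * y * (u : GL D.Idx F)⁻¹ ∈ D.diagonalSubgroup F} : ℂ) := by
  refine Eq.trans (alt_eq C (group_eq C) (le_refl _) y hy) ?_
  rw [cellFix, Nat.cast_inj]
  refine Nat.card_congr ((MulEquiv.subgroupCongr (Ucl_w0_range C)).toEquiv.subtypeEquiv fun u => ?_)
  have hz : (u : GL D.Idx F) * y * (u : GL D.Idx F)⁻¹ ∈ D.borelSubgroup F :=
    mul_mem (mul_mem (C.Ucl_invRoots_le _ u.2) hy) (inv_mem (C.Ucl_invRoots_le _ u.2))
  rw [w0_conj_iff C _ hz, radical_range C]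
  constructor
  · rintro ⟨r, hr, t, ht, e⟩
    rw [Subgroup.mem_bot.1 hr, one_mul] at e
    exact e ▸ ht
  · exact fun h => ⟨1, one_mem _, _, h, (one_mul _).symm⟩

theorem ncard_pos : Set.ncard {r | D.IsPosRoot r} = D.nroots / 2 := by
  have hnegset : {r | D.IsNegRoot r} = D.neg '' {r | D.IsPosRoot r} := by
    ext r
    constructor
    · intro hr
      exact ⟨D.neg r, (C.R.isPos_neg_iff hr.1).2 hr, C.R.neg_neg r hr.1⟩
    · rintro ⟨s, hs, rfl⟩
      exact (C.R.isNeg_neg_iff hs.1).2 hs
  have hinj : Set.InjOn D.neg {r | D.IsPosRoot r} := fun a ha b hb e => by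
    rw [← C.R.neg_neg a ha.1, e, C.R.neg_neg b hb.1]
  have hunion : {r | D.IsPosRoot r} ∪ {r | D.IsNegRoot r} = Set.Iio D.nroots := by
    ext r
    exact ⟨fun h => h.elim (fun h => h.1) (fun h => h.1), fun h => C.R.pos_or_neg h⟩
  have hfin : {r | D.IsPosRoot r}.Finite := (Set.finite_Iio D.nroots).subset fun r hr => hr.1
  have hfin' : {r | D.IsNegRoot r}.Finite := (Set.finite_Iio D.nroots).subset fun r hr => hr.1
  have h := Set.ncard_union_eq (s := {r | D.IsPosRoot r}) (t := {r | D.IsNegRoot r})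
    (Set.disjoint_left.2 fun r h1 h2 => C.R.not_pos_and_neg h1 h2) hfin hfin'
  rw [hunion, hnegset, hinj.ncard_image, Set.ncard_Iio_nat] at h
  omega

theorem card_posUnipotent [Fintype F] :
    Nat.card (D.posUnipotent F) = Fintype.card F ^ (D.nroots / 2) := by
  rw [C.posUnipotent_eq, C.card_Ucl C.R.isClosed_pos, ncard_pos C]

theorem steinberg_one [Fintype F] :
    D.steinbergCharacter F 1 = (Fintype.card F : ℂ) ^ (D.nroots / 2) := by
  rw [steinberg_borel C 1 (one_mem _)]
  rw [Nat.card_congr (Equiv.subtypeUnivEquiv (α := D.posUnipotent F) fun u => by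
    simp only [OneMemClass.coe_one, mul_one, mul_inv_cancel]
    exact one_mem _), card_posUnipotent C, Nat.cast_pow]

theorem steinberg_restrict_borel [Finite F] (b : ↥((D.borelSubgroup F).subgroupOf (D.group F))) :
    D.steinbergCharacter F ((((D.borelSubgroup F).subgroupOf (D.group F)).subtype) b) =
      Cfsg.fixedPointCharacter (((D.diagonalSubgroup F).subgroupOf (D.group F)).subgroupOf
        ((D.borelSubgroup F).subgroupOf (D.group F))) b := by
  rw [Subgroup.coe_subtype, steinberg_borel C _ b.2, Cfsg.fixedPointCharacter, Nat.cast_inj]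
  let B' := (D.borelSubgroup F).subgroupOf (D.group F)
  let K := ((D.diagonalSubgroup F).subgroupOf (D.group F)).subgroupOf B'
  have hUB : ∀ u : D.posUnipotent F, (u : GL D.Idx F) ∈ D.borelSubgroup F :=
    fun u => le_sup_left (b := D.diagonalSubgroup F) u.2
  let f : D.posUnipotent F → B' ⧸ K := fun u =>
    QuotientGroup.mk ⟨⟨(u : GL D.Idx F)⁻¹, C.borel_le_group (inv_mem (hUB u))⟩, inv_mem (hUB u)⟩
  have hf : Function.Bijective f := by
    constructor
    · intro u v e
      simp only [f, QuotientGroup.eq, K, Subgroup.mem_subgroupOf, InvMemClass.coe_inv,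
        MulMemClass.coe_mul, inv_inv] at e
      have h1 := (Subgroup.eq_bot_iff_forall _).1 C.posUnipotent_inf_diagonal _
        (Subgroup.mem_inf.2 ⟨mul_mem u.2 (inv_mem v.2), e⟩)
      exact Subtype.ext (mul_inv_eq_one.1 h1)
    · intro q
      induction q using QuotientGroup.induction_on with | _ g => ?_
      obtain ⟨v, hv, c, hg⟩ := C.mem_borel.1 g.2
      refine ⟨⟨v⁻¹, inv_mem hv⟩, ?_⟩
      simp only [f, inv_inv, QuotientGroup.eq, K, Subgroup.mem_subgroupOf, InvMemClass.coe_inv,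
        MulMemClass.coe_mul]
      rw [Subgroup.coe_subtype] at hg
      rw [hg, inv_mul_cancel_left, C.diagonalSubgroup_eq]
      exact ⟨c, rfl⟩
  refine Nat.card_congr ((Equiv.ofBijective f hf).subtypeEquiv (q := fun q => q ∈ MulAction.fixedBy (B' ⧸ K) b)
    fun u => ?_)
  rw [MulAction.mem_fixedBy, eq_comm]
  show _ ↔ f u = b • f u
  simp only [f, MulAction.Quotient.smul_mk, QuotientGroup.eq, K, Subgroup.mem_subgroupOf, smul_eq_mul,
    InvMemClass.coe_inv, MulMemClass.coe_mul, inv_inv]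
  rw [← mul_assoc]

/-- The index of a Borel subgroup in a parabolic subgroup is prime to the characteristic. -/
theorem not_dvd_index_P [Fintype F] (p : ℕ) [Fact p.Prime] [CharP F p] {A : Finset ℕ} :
    ¬ p ∣ ((P D F ∅).subgroupOf (P D F A)).index := by
  have hbij := parCoset_bijective C (K := ∅) (rfl : P D F A = P D F A) (Finset.empty_subset A)
  rw [Subgroup.index, ← Nat.card_eq_of_bijective _ hbij, Nat.card_sigma]
  simp only [C.card_Ucl (C.hR.invRoots_closed (WS_le C.hR A ((mem_Mrep C).1 (Subtype.prop _)).1)),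
    C.hR.ncard_invRoots]
  intro hdvd
  rw [Finset.sum_coe_sort (Mrep C A ∅) (fun w => Fintype.card F ^ (C.hR.invSet w).card)] at hdvd
  have hone : (1 : Equiv.Perm (Fin D.nroots)) ∈ Mrep C A ∅ :=
    (mem_Mrep C).2 ⟨one_mem _, fun i hi => absurd hi (Finset.notMem_empty _)⟩
  rw [← Finset.add_sum_erase _ _ hone, invSet_one C.hR, Finset.card_empty, pow_zero] at hdvd
  have hrest : p ∣ ∑ w ∈ (Mrep C A ∅).erase 1, Fintype.card F ^ (C.hR.invSet w).card := by
    refine Finset.dvd_sum fun w hw => dvd_pow ?_ ?_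
    · obtain ⟨k, -, hk⟩ := FiniteField.card F p
      rw [hk]
      exact dvd_pow_self p k.ne_zero
    · rw [Finset.mem_erase, mem_Mrep] at hw
      rw [Ne, Finset.card_eq_zero]
      exact fun h => hw.1 (C.hR.eq_one_of_invSet_eq_empty (WS_le C.hR A hw.2.1) h)
  exact (Fact.out : p.Prime).one_lt.ne' (Nat.dvd_one.1 ((Nat.dvd_add_left hrest).1 hdvd))

omit [Field F] C in
theorem empty_closure_bot {G : Type*} [Group G] (f : ℕ → G → Prop) :
    Subgroup.closure {g : G | ∃ j ∈ ((∅ : Finset ℕ) : Set ℕ), f j g} = ⊥ := by simp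

omit C in
theorem P_empty : P D F ∅ = D.borelSubgroup F := by
  show D.borelSubgroup F ⊔ _ = _
  rw [empty_closure_bot, sup_bot_eq]

/-- An element of `p`-power order of a parabolic subgroup is conjugate into `U` inside it. -/
theorem exists_conj_pos [Fintype F] (p : ℕ) [Fact p.Prime] [CharP F p] {A : Finset ℕ}
    (y : P D F A) (hy : ∃ k : ℕ, orderOf y = p ^ k) :
    ∃ g : P D F A, (g : GL D.Idx F)⁻¹ * y * g ∈ D.posUnipotent F := by
  obtain ⟨k, hk⟩ := hy
  have hU : IsPGroup p (Subgroup.zpowers y) := IsPGroup.of_card (n := k) (by rw [Nat.card_zpowers, hk])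
  obtain ⟨x, hx⟩ := hU.nonempty_fixed_point_of_prime_not_dvd_card
    (↥(P D F A) ⧸ (P D F ∅).subgroupOf (P D F A)) (not_dvd_index_P C p)
  induction x using QuotientGroup.induction_on with | _ g => ?_
  refine ⟨g, ChevPSylow.mem_posUnipotent_of_pow C p (n := k) ?_ ?_⟩
  · have h1 := hx ⟨y, Subgroup.mem_zpowers y⟩
    change ((y * g : ↥(P D F A)) : ↥(P D F A) ⧸ (P D F ∅).subgroupOf (P D F A)) = _ at h1
    have h2 := QuotientGroup.eq.1 h1.symm
    rw [Subgroup.mem_subgroupOf, P_empty] at h2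
    simpa [mul_assoc] using h2
  · have h5 := conj_pow (i := p ^ k) (a := (g : GL D.Idx F)⁻¹) (b := (y : GL D.Idx F))
    rw [inv_inv] at h5
    rw [h5, ← Subgroup.coe_pow, ← hk, pow_orderOf_eq_one, OneMemClass.coe_one]
    group

/-- The value on `U`, relative to a parabolic subgroup. -/
theorem cellFix_pos (A : Finset ℕ) {y : GL D.Idx F} (hy : y ∈ D.posUnipotent F) :
    cellFix C y (w0 C A) = if y ∈ D.unipotentRadical F (A : Set ℕ) then
      Nat.card (C.Ucl (C.hR.invRoots (w0 C A))) else 0 := by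
  have key : ∀ u : C.Ucl (C.hR.invRoots (w0 C A)),
      (nw C (w0 C A) * ((u : GL D.Idx F) * y * (u : GL D.Idx F)⁻¹) * (nw C (w0 C A))⁻¹ ∈
        D.borelSubgroup F) ↔ y ∈ D.unipotentRadical F (A : Set ℕ) := by
    intro u
    have huU : (u : GL D.Idx F) ∈ D.posUnipotent F := by
      rw [C.posUnipotent_eq]
      refine C.Ucl_mono ?_ u.2
      rw [invRoots_w0]
      exact fun r hr => hr.1
    have huB : (u : GL D.Idx F) ∈ D.borelSubgroup F := C.Ucl_invRoots_le _ u.2
    have hnorm := C.parabolic_le_normalizer (borel_le_P A huB)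
    have hzU := mul_mem (mul_mem huU hy) (inv_mem huU)
    rw [w0_conj_iff C A (le_sup_left (b := D.diagonalSubgroup F) hzU)]
    constructor
    · rintro ⟨r, hr, t, ht, e⟩
      have hrU : r ∈ D.posUnipotent F := by
        rw [C.radical_eq] at hr
        rw [C.posUnipotent_eq]
        exact C.Ucl_mono (fun s hs => hs.1) hr
      have ht1 : t = 1 := by
        refine (Subgroup.eq_bot_iff_forall _).1 C.posUnipotent_inf_diagonal _ (Subgroup.mem_inf.2 ⟨?_, ht⟩)
        rw [show t = r⁻¹ * ((u : GL D.Idx F) * y * (u : GL D.Idx F)⁻¹) by rw [e, inv_mul_cancel_left]]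
        exact mul_mem (inv_mem hrU) hzU
      rw [ht1, mul_one] at e
      exact (Subgroup.mem_normalizer_iff.1 hnorm y).2 (e ▸ hr)
    · intro h
      exact ⟨_, (Subgroup.mem_normalizer_iff.1 hnorm y).1 h, 1, one_mem _, (mul_one _).symm⟩
  rw [cellFix, Nat.card_congr (Equiv.subtypeEquivRight key)]
  split_ifs with h
  · exact Nat.card_congr (Equiv.subtypeUnivEquiv fun _ => h)
  · have : IsEmpty {_u : C.Ucl (C.hR.invRoots (w0 C A)) // y ∈ D.unipotentRadical F (A : Set ℕ)} :=
      ⟨fun u => h u.2⟩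
    exact Nat.card_of_isEmpty

/-- The alternating sum at an element of `p`-power order of a parabolic subgroup. -/
theorem alt_pElement [Fintype F] (p : ℕ) [Fact p.Prime] [CharP F p] {A : Finset ℕ}
    (hA : A ⊆ Finset.range D.rank) (y : P D F A) (hy : ∃ k : ℕ, orderOf y = p ^ k) :
    ∑ K ∈ A.powerset, (-1 : ℂ) ^ K.card *
        Cfsg.fixedPointCharacter ((P D F K).subgroupOf (P D F A)) y =
      if (y : GL D.Idx F) ∈ D.unipotentRadical F (A : Set ℕ) then
        (Nat.card (C.Ucl (C.hR.invRoots (w0 C A))) : ℂ) else 0 := by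
  obtain ⟨g, hg⟩ := exists_conj_pos C p y hy
  set z : P D F A := g⁻¹ * y * g with hz
  have hconj : IsConj z y := isConj_iff.2 ⟨g, by rw [hz]; group⟩
  have hclass : ∀ K, Cfsg.fixedPointCharacter ((P D F K).subgroupOf (P D F A)) y =
      Cfsg.fixedPointCharacter ((P D F K).subgroupOf (P D F A)) z := fun K =>
    (CfsgLib.Characters.classFunction_eq_of_isConj
      (CfsgLib.Characters.isClassFunction_of_isCharacter
        (CfsgLib.GLFlags.isCharacter_fixedPointCharacter _)) hconj).symm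
  simp only [hclass]
  have hzc : (z : GL D.Idx F) ∈ D.posUnipotent F := by simpa [hz] using hg
  rw [alt_eq C rfl hA z (le_sup_left (b := D.diagonalSubgroup F) hzc), cellFix_pos C A hzc]
  have hiff : (z : GL D.Idx F) ∈ D.unipotentRadical F (A : Set ℕ) ↔
      (y : GL D.Idx F) ∈ D.unipotentRadical F (A : Set ℕ) := by
    have hn := C.parabolic_le_normalizer (inv_mem g.2)
    rw [Subgroup.mem_normalizer_iff.1 hn (y : GL D.Idx F)]
    simp [hz]
  by_cases h : (y : GL D.Idx F) ∈ D.unipotentRadical F (A : Set ℕ)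
  · rw [if_pos (hiff.2 h), if_pos h]
  · rw [if_neg (fun h' => h (hiff.1 h')), if_neg h, Nat.cast_zero]

end CfsgLib.SteinbergChar
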