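import Cfsg.Agent.Lib.SteinbergChar.Values

/-!
The number of elements of `p`-power order of a parabolic subgroup.
-/

set_option autoImplicit false

namespace CfsgLib.SteinbergChar

open Cfsg.Lie CfsgLib.ChevStr CfsgLib.ChevStr.ChevCore CfsgLib.KnownSimple
open scoped Classical MatrixGroups

theorem sum_fixedPointCharacter_pElements {G : Type*} [Group G] [Fintype G] (K : Subgroup G) (p : ℕ) :
    ∑ y ∈ (Finset.univ : Finset G).filter (fun y => ∃ k : ℕ, orderOf y = p ^ k),
        Cfsg.fixedPointCharacter K y =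
      (K.index : ℂ) * (Nat.card {y : K // ∃ k : ℕ, orderOf y = p ^ k} : ℂ) := by
  have := Fintype.ofFinite (G ⧸ K)
  let S := (Finset.univ : Finset G).filter (fun y => ∃ k : ℕ, orderOf y = p ^ k)
  have hstab : ∀ x : G ⧸ K, Nat.card {y : S // (y : G) • x = x} =
      Nat.card {y : K // ∃ k : ℕ, orderOf y = p ^ k} := by
    intro x
    induction x using QuotientGroup.induction_on with | _ g => ?_
    have hiff : ∀ y : G, y • (g : G ⧸ K) = g ↔ g⁻¹ * y * g ∈ K := fun y => by
      rw [eq_comm, MulAction.Quotient.smul_mk, QuotientGroup.eq, smul_eq_mul, mul_assoc]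
    have hord : ∀ y : G, orderOf (g⁻¹ * y * g) = orderOf y := fun y => by
      have := orderOf_injective (MulAut.conj g⁻¹).toMonoidHom (MulAut.conj g⁻¹).injective y
      simpa [MulAut.conj_apply] using this
    have hmem : ∀ y : G, y ∈ S ↔ ∃ k : ℕ, orderOf y = p ^ k := fun y => by simp [S]
    refine Nat.card_congr
      { toFun := fun y => ⟨⟨g⁻¹ * (y.1 : G) * g, (hiff _).1 y.2⟩, ?_⟩
        invFun := fun y => ⟨⟨g * (y.1 : G) * g⁻¹, ?_⟩, ?_⟩
        left_inv := fun y => Subtype.ext (Subtype.ext (by show g * (g⁻¹ * (y.1 : G) * g) * g⁻¹ = _; group))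
        right_inv := fun y => Subtype.ext (Subtype.ext (by show g⁻¹ * (g * (y.1 : G) * g⁻¹) * g = _; group)) }
    · rw [← Subgroup.orderOf_coe]
      show ∃ k, orderOf (g⁻¹ * (y.1 : G) * g) = p ^ k
      rw [hord]
      exact (hmem _).1 y.1.2
    · rw [hmem, ← hord]
      simp only [mul_assoc, inv_mul_cancel_left, inv_mul_cancel, mul_one, Subgroup.orderOf_coe]
      exact y.2
    · show (g * (y.1 : G) * g⁻¹) • (g : G ⧸ K) = g
      rw [hiff]
      simp only [mul_assoc, inv_mul_cancel_left, inv_mul_cancel, mul_one]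
      exact y.1.2
  let e : (Σ y : S, MulAction.fixedBy (G ⧸ K) (y : G)) ≃ Σ x : G ⧸ K, {y : S // (y : G) • x = x} :=
    { toFun := fun z => ⟨z.2.1, z.1, z.2.2⟩
      invFun := fun z => ⟨z.2.1, z.1, z.2.2⟩
      left_inv := fun _ => rfl
      right_inv := fun _ => rfl }
  show ∑ y ∈ S, _ = _
  rw [← Finset.sum_coe_sort S]
  simp only [Cfsg.fixedPointCharacter]
  rw [← Nat.cast_sum, ← Nat.card_sigma, Nat.card_congr e, Nat.card_sigma]
  simp only [hstab, Finset.sum_const, Finset.card_univ, smul_eq_mul, Nat.cast_mul]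
  simp [Subgroup.index, Nat.card_eq_fintype_card]

variable {D : ChevalleyDatum} {F : Type*} [Field F] (C : ChevCore D F)

include C

theorem index_P [Fintype F] {A K : Finset ℕ} (hKA : K ⊆ A) :
    ((P D F K).subgroupOf (P D F A)).index =
      ∑ w ∈ Mrep C A K, Fintype.card F ^ (C.hR.invSet w).card := by
  have hbij := parCoset_bijective C (K := K) (rfl : P D F A = P D F A) hKA
  rw [Subgroup.index, ← Nat.card_eq_of_bijective _ hbij, Nat.card_sigma]
  simp only [C.card_Ucl (C.hR.invRoots_closed (WS_le C.hR A ((mem_Mrep C).1 (Subtype.prop _)).1)),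
    C.hR.ncard_invRoots]
  rw [Finset.sum_coe_sort (Mrep C A K) (fun w => Fintype.card F ^ (C.hR.invSet w).card)]

theorem sum_negOn (w : Equiv.Perm (Fin D.nroots)) {A : Finset ℕ} (hA : A ⊆ Finset.range D.rank) :
    (∑ K ∈ A.powerset, if NegOn C.R w K then (-1 : ℤ) ^ K.card else 0) =
      if PosOn C.R w A then 1 else 0 := by
  set d := A.filter fun j => ∀ h : j < D.rank, D.IsNegRoot (w (sroot C.R ⟨j, h⟩)) with hd
  have hsub : A.powerset.filter (fun K => NegOn C.R w K) = d.powerset := by
    ext K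
    simp only [Finset.mem_filter, Finset.mem_powerset]
    constructor
    · rintro ⟨h1, h2⟩ j hj
      exact Finset.mem_filter.2 ⟨h1 hj, fun hlt => h2 ⟨j, hlt⟩ hj⟩
    · intro h
      exact ⟨fun j hj => (Finset.mem_filter.1 (h hj)).1, fun i hi => (Finset.mem_filter.1 (h hi)).2 i.isLt⟩
  have hempty : d = ∅ ↔ PosOn C.R w A := by
    rw [Finset.eq_empty_iff_forall_notMem]
    constructor
    · intro h i hi
      exact (pos_or_negOn C.hR i).resolve_right fun hn => h i (Finset.mem_filter.2 ⟨hi, fun _ => hn⟩)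
    · intro h j hj
      obtain ⟨hj1, hj2⟩ := Finset.mem_filter.1 hj
      have hlt := Finset.mem_range.1 (hA hj1)
      exact C.R.not_pos_and_neg (h ⟨j, hlt⟩ hj1) (hj2 hlt)
  rw [← Finset.sum_filter, hsub, Finset.sum_powerset_neg_one_pow_card]
  simp only [hempty]

/-- The number of inversions of the longest element of a parabolic subgroup. -/
noncomputable def topLen (A : Finset ℕ) : ℕ := (C.hR.invSet (w0 C A)).card

theorem topLen_range : topLen C (Finset.range D.rank) = D.nroots / 2 := by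
  rw [topLen, ← C.hR.ncard_invRoots, invRoots_w0, ← ncard_pos C]
  congr 1
  ext r
  refine ⟨fun h => h.1, fun h => ⟨h, C.hR.inRootSub_iff.2 ⟨h.1, fun i hi => ?_⟩⟩⟩
  exact absurd (mem_fs.2 (Finset.mem_range.2 i.isLt)) hi

theorem alt_poincare [Fintype F] {A : Finset ℕ} (hA : A ⊆ Finset.range D.rank) :
    ∑ K ∈ A.powerset, (-1 : ℤ) ^ K.card *
      (((P D F K).subgroupOf (P D F A)).index * Fintype.card F ^ topLen C K : ℕ) = 1 := by
  have h1 : ∀ K ∈ A.powerset,
      (((P D F K).subgroupOf (P D F A)).index * Fintype.card F ^ topLen C K : ℕ) =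
        ∑ v ∈ Finset.univ.filter (fun v => v ∈ WS C.hR A ∧ NegOn C.R v K),
          Fintype.card F ^ (C.hR.invSet v).card := by
    intro K hK
    rw [Finset.mem_powerset] at hK
    rw [index_P C hK, Finset.sum_mul]
    refine Finset.sum_nbij (fun w => w⁻¹ * w0 C K) ?_ ?_ ?_ ?_
    · intro w hw
      obtain ⟨hwA, hwp⟩ := (mem_Mrep C).1 hw
      rw [Finset.mem_filter]
      refine ⟨Finset.mem_univ _, mul_mem (inv_mem hwA) (WS_mono C.hR hK (w0_mem C K)), fun i hi => ?_⟩
      have hneg := w0_neg C K i hi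
      set s := w0 C K (sroot C.R i) with hs
      have hsupp : ∀ m : Fin D.rank, m.val ∉ K → C.R.α s m = 0 := fun m hm => by
        rw [C.hR.weylSub_fix (w0_mem C K) _ m fun h => hm (mem_fs.1 h)]
        show C.R.α (D.simple i.val) m = 0
        rw [C.R.α_simple, Pi.single_eq_of_ne]
        exact fun e => hm (e ▸ hi)
      have hwW := inv_mem (WS_le C.hR A hwA)
      have hp : D.IsPosRoot (w⁻¹ ⟨D.neg s, C.R.neg_lt s s.isLt⟩) :=
        apply_pos C.hR hwW hwp ((C.R.isPos_neg_iff s.isLt).2 hneg) fun m hm => by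
          show C.R.α (D.neg s) m = 0
          rw [C.R.α_neg s s.isLt, Pi.neg_apply, hsupp m hm, neg_zero]
      rw [C.hR.apply_neg hwW s, C.R.isPos_neg_iff (w⁻¹ s).isLt] at hp
      rw [Equiv.Perm.mul_apply]
      exact hp
    · intro a _ b _ e
      exact inv_injective (mul_right_cancel e)
    · intro v hv
      simp only [Finset.coe_filter, Finset.mem_univ, true_and, Set.mem_ofPred_eq] at hv
      obtain ⟨hvA, hvn⟩ := hv
      obtain ⟨x, u, hx, hxp, hu, rfl⟩ := exists_min C.hR (J := K) (WS_le C.hR A hvA)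
      have hu' : u = w0 C K := by
        refine negOn_unique C.hR hu (w0_mem C K) (fun i hi => (pos_or_negOn C.hR i).resolve_left fun hp => ?_)
          (w0_neg C K)
        refine C.R.not_pos_and_neg (apply_pos C.hR hx hxp hp fun m hm => ?_) (hvn i hi)
        rw [C.hR.weylSub_fix hu _ m fun h => hm (mem_fs.1 h)]
        show C.R.α (D.simple i.val) m = 0
        rw [C.R.α_simple, Pi.single_eq_of_ne]
        exact fun e => hm (e ▸ hi)
      refine ⟨x⁻¹, ?_, by simp [hu']⟩
      rw [Finset.mem_coe, mem_Mrep, inv_inv]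
      refine ⟨inv_mem ?_, hxp⟩
      rw [show x = x * u * u⁻¹ by group]
      exact mul_mem hvA (inv_mem (WS_mono C.hR hK hu))
    · intro w hw
      obtain ⟨hwA, hwp⟩ := (mem_Mrep C).1 hw
      rw [card_min_mul C.hR (inv_mem (WS_le C.hR A hwA)) hwp (w0_mem C K),
        C.hR.card_invSet_inv (WS_le C.hR A hwA), pow_add, topLen]
  have h2 : ∀ K ∈ A.powerset, (-1 : ℤ) ^ K.card *
      (((P D F K).subgroupOf (P D F A)).index * Fintype.card F ^ topLen C K : ℕ) =
        ∑ v ∈ Finset.univ.filter (fun v => v ∈ WS C.hR A),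
          (Fintype.card F : ℤ) ^ (C.hR.invSet v).card * (if NegOn C.R v K then (-1) ^ K.card else 0) := by
    intro K hK
    rw [h1 K hK, Nat.cast_sum, Finset.mul_sum, ← Finset.filter_filter, Finset.sum_filter]
    refine Finset.sum_congr rfl fun v _ => ?_
    split_ifs <;> push_cast <;> ring
  rw [Finset.sum_congr rfl h2, Finset.sum_comm, Finset.sum_eq_single 1]
  · rw [← Finset.mul_sum, sum_negOn C _ hA, if_pos, invSet_one C.hR, Finset.card_empty, pow_zero, one_mul]
    intro i _
    exact C.R.simple_pos i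
  · intro v hv hne
    rw [← Finset.mul_sum, sum_negOn C _ hA, if_neg, mul_zero]
    exact fun h => hne (eq_one_of_posOn C.hR (Finset.mem_filter.1 hv).2 h)
  · intro h
    exact absurd (Finset.mem_filter.2 ⟨Finset.mem_univ _, one_mem _⟩) h

theorem card_radical_mul [Fintype F] (A : Finset ℕ) :
    Nat.card (D.unipotentRadical F (A : Set ℕ)) * Nat.card (C.Ucl (C.hR.invRoots (w0 C A))) =
      Fintype.card F ^ (D.nroots / 2) := by
  rw [C.radical_eq, C.card_Ucl (ChevRadical.isClosed_radRoots C),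
    C.card_Ucl (C.hR.invRoots_closed (WS_le C.hR A (w0_mem C A))), ← pow_add, ← ncard_pos C]
  congr 1
  have hfin : ∀ S : Set ℕ, S ⊆ {r | D.IsPosRoot r} → S.Finite := fun S hS =>
    (Set.finite_Iio D.nroots).subset fun r hr => (hS hr).1
  rw [invRoots_w0, ← Set.ncard_union_eq ?_ (hfin _ fun r hr => hr.1) (hfin _ fun r hr => hr.1)]
  · congr 1
    ext r
    refine ⟨fun h => h.elim (fun h => h.1) (fun h => h.1), fun h => ?_⟩
    by_cases hin : D.InRootSub (A : Set ℕ) r
    · exact Or.inr ⟨h, hin⟩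
    · exact Or.inl ⟨h, hin⟩
  · exact Set.disjoint_left.2 fun r h1 h2 => h1.2 h2.2

theorem count_pElements [Fintype F] (p : ℕ) [Fact p.Prime] [CharP F p] : ∀ {A : Finset ℕ},
    A ⊆ Finset.range D.rank → Nat.card {y : P D F A // ∃ k : ℕ, orderOf y = p ^ k} =
      Fintype.card F ^ (D.nroots / 2 + topLen C A) := by
  intro A
  induction A using Finset.strongInduction with
  | _ A ih =>
  intro hA
  have : Fintype (P D F A) := Fintype.ofFinite _
  set e : Finset ℕ → ℕ := fun K => Nat.card {y : P D F K // ∃ k : ℕ, orderOf y = p ^ k} with he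
  set idx : Finset ℕ → ℕ := fun K => ((P D F K).subgroupOf (P D F A)).index with hidx
  have hUle : D.unipotentRadical F (A : Set ℕ) ≤ P D F A := le_trans C.radical_le_borel (borel_le_P A)
  -- the sum over the elements of p-power order
  have hsum : ∑ K ∈ A.powerset, (-1 : ℂ) ^ K.card * ((idx K : ℂ) * (e K : ℂ)) =
      (Fintype.card F : ℂ) ^ (D.nroots / 2) := by
    have h1 : ∀ K ∈ A.powerset, (-1 : ℂ) ^ K.card * ((idx K : ℂ) * (e K : ℂ)) =
        ∑ y ∈ (Finset.univ : Finset (P D F A)).filter (fun y => ∃ k : ℕ, orderOf y = p ^ k),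
          (-1 : ℂ) ^ K.card * Cfsg.fixedPointCharacter ((P D F K).subgroupOf (P D F A)) y := by
      intro K hK
      rw [← Finset.mul_sum, sum_fixedPointCharacter_pElements]
      have hcongr : e K = Nat.card {y : (P D F K).subgroupOf (P D F A) // ∃ k : ℕ, orderOf y = p ^ k} := by
        let E := Subgroup.subgroupOfEquivOfLe (P_mono (F := F) (D := D) (Finset.mem_powerset.1 hK))
        refine (Nat.card_congr (E.toEquiv.subtypeEquiv fun y => ?_)).symm
        show (∃ k, orderOf y = p ^ k) ↔ ∃ k, orderOf (E y) = p ^ k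
        rw [MulEquiv.orderOf_eq]
      rw [hcongr]
    rw [Finset.sum_congr rfl h1, Finset.sum_comm,
      Finset.sum_congr rfl fun y hy => alt_pElement C p hA y (Finset.mem_filter.1 hy).2]
    rw [← Finset.sum_filter, Finset.sum_const, nsmul_eq_mul, ← Nat.cast_pow, ← card_radical_mul C A,
      Nat.cast_mul]
    congr 1
    rw [Nat.cast_inj]
    rw [← Nat.card_congr (Subgroup.subgroupOfEquivOfLe hUle).toEquiv, Nat.card_eq_fintype_card]
    refine (Fintype.card_of_subtype _ fun y => ?_).symm
    rw [Finset.mem_filter, Finset.mem_filter, Subgroup.mem_subgroupOf]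
    refine ⟨fun h => h.2, fun h => ⟨⟨Finset.mem_univ _, ?_⟩, h⟩⟩
    obtain ⟨k, hk⟩ := (ChevRadical.isPGroup_radical C (J := (A : Set ℕ)) p) ⟨y, h⟩
    have hy : (y : GL D.Idx F) ^ p ^ k = 1 := congrArg Subtype.val hk
    obtain ⟨j, -, hj⟩ := (Nat.dvd_prime_pow (Fact.out : p.Prime)).1 (orderOf_dvd_of_pow_eq_one hy)
    exact ⟨j, by rw [← Subgroup.orderOf_coe, hj]⟩
  have hcast : (∑ K ∈ A.powerset, (-1 : ℤ) ^ K.card * ((idx K * e K : ℕ) : ℤ)) =
      ((Fintype.card F ^ (D.nroots / 2) : ℕ) : ℤ) := by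
    have hinj := (Int.cast_injective (α := ℂ))
    apply hinj
    push_cast
    exact hsum
  have hcand : (∑ K ∈ A.powerset, (-1 : ℤ) ^ K.card *
      ((idx K * Fintype.card F ^ (D.nroots / 2 + topLen C K) : ℕ) : ℤ)) =
      ((Fintype.card F ^ (D.nroots / 2) : ℕ) : ℤ) := by
    have h := alt_poincare C (F := F) hA
    calc _ = ((Fintype.card F ^ (D.nroots / 2) : ℕ) : ℤ) * ∑ K ∈ A.powerset, (-1 : ℤ) ^ K.card *
          ((idx K * Fintype.card F ^ topLen C K : ℕ) : ℤ) := by
            rw [Finset.mul_sum]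
            exact Finset.sum_congr rfl fun K _ => by push_cast; ring
      _ = _ := by rw [h, mul_one]
  rw [← Finset.add_sum_erase _ _ (Finset.mem_powerset_self A)] at hcast hcand
  have hrest : ∑ K ∈ A.powerset.erase A, (-1 : ℤ) ^ K.card * ((idx K * e K : ℕ) : ℤ) =
      ∑ K ∈ A.powerset.erase A, (-1 : ℤ) ^ K.card *
        ((idx K * Fintype.card F ^ (D.nroots / 2 + topLen C K) : ℕ) : ℤ) := by
    refine Finset.sum_congr rfl fun K hK => ?_
    rw [Finset.mem_erase, Finset.mem_powerset] at hK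
    rw [show e K = _ from ih K (hK.2.ssubset_of_ne hK.1) (hK.2.trans hA)]
  rw [hrest] at hcast
  have hA1 : idx A = 1 := by simp [hidx]
  have := add_right_cancel (hcast.trans hcand.symm)
  rw [hA1, one_mul, one_mul] at this
  exact_mod_cast mul_left_cancel₀ (pow_ne_zero _ (by norm_num)) this

theorem count_group [Fintype F] (p : ℕ) [Fact p.Prime] [CharP F p] :
    Nat.card {g : D.group F // ∃ k : ℕ, orderOf g = p ^ k} = Fintype.card F ^ (2 * (D.nroots / 2)) := by
  rw [two_mul]
  nth_rewrite 2 [← topLen_range C]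
  rw [← count_pElements C p (le_refl (Finset.range D.rank))]
  refine Nat.card_congr ((MulEquiv.subgroupCongr (group_eq C)).toEquiv.subtypeEquiv fun g => ?_)
  show (∃ k, orderOf g = p ^ k) ↔ ∃ k, orderOf (MulEquiv.subgroupCongr (group_eq C) g) = p ^ k
  rw [MulEquiv.orderOf_eq]

theorem card_diagonal_dvd [Fintype F] :
    Nat.card (D.diagonalSubgroup F) ∣ (Fintype.card F - 1) ^ D.rank := by
  rw [C.diagonalSubgroup_eq]
  refine dvd_trans (Subgroup.card_range_dvd _) ?_
  rw [Nat.card_pi, Finset.prod_const, Finset.card_univ, Fintype.card_fin, Nat.card_eq_fintype_card,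
    Fintype.card_units]

theorem factorization_card_group [Fintype F] (p : ℕ) [Fact p.Prime] [CharP F p] :
    p ^ (Nat.card (D.group F)).factorization p = Fintype.card F ^ (D.nroots / 2) := by
  have hp := (Fact.out : p.Prime)
  obtain ⟨k, -, hk⟩ := FiniteField.card F p
  have hH : ¬ p ∣ Nat.card (D.diagonalSubgroup F) := fun h => by
    have h1 := hp.dvd_of_dvd_pow (dvd_trans h (card_diagonal_dvd C))
    have h2 : p ∣ Fintype.card F := hk ▸ dvd_pow_self p k.ne_zero
    have h3 : 1 ≤ Fintype.card F := Fintype.card_pos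
    have h4 := Nat.dvd_sub h2 h1
    rw [Nat.sub_sub_self h3] at h4
    exact hp.not_dvd_one h4
  have hidx := ChevPSylow.not_dvd_index C p
  have hB : Nat.card (D.group F) =
      Fintype.card F ^ (D.nroots / 2) * (Nat.card (D.diagonalSubgroup F) *
        ((D.borelSubgroup F).subgroupOf (D.group F)).index) := by
    rw [← mul_assoc, ← ncard_pos C, ← C.card_borel,
      ← Nat.card_congr (Subgroup.subgroupOfEquivOfLe C.borel_le_group).toEquiv, Subgroup.card_mul_index]
  have hne : Nat.card (D.diagonalSubgroup F) * ((D.borelSubgroup F).subgroupOf (D.group F)).index ≠ 0 := by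
    intro h
    rcases Nat.mul_eq_zero.1 h with h | h
    · exact hH (h ▸ dvd_zero p)
    · exact hidx (h ▸ dvd_zero p)
  rw [hB, Nat.factorization_mul (by positivity) hne, Finsupp.add_apply,
    Nat.factorization_eq_zero_of_not_dvd (n := _ * _) (fun h => (hp.dvd_mul.1 h).elim hH hidx),
    add_zero, hk, ← pow_mul, Nat.factorization_pow, Finsupp.smul_apply, hp.factorization_self,
    smul_eq_mul, mul_one]

theorem pos_le_group : D.posUnipotent F ≤ D.group F :=
  le_trans le_sup_left C.borel_le_group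

theorem pos_is_sylow [Fintype F] (p : ℕ) [Fact p.Prime] [CharP F p] :
    ∃ P : Sylow p ↥(D.group F),
      (P : Subgroup ↥(D.group F)) = (D.posUnipotent F).subgroupOf (D.group F) := by
  have hcard : Nat.card ((D.posUnipotent F).subgroupOf (D.group F)) =
      p ^ (Nat.card (D.group F)).factorization p := by
    rw [Nat.card_congr (Subgroup.subgroupOfEquivOfLe (pos_le_group C)).toEquiv, card_posUnipotent C,
      factorization_card_group C p]
  exact ⟨Sylow.ofCard _ hcard, rfl⟩

end CfsgLib.SteinbergChar
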