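import Cfsg.Agent.Lib.SteinbergChar.Weyl
import Cfsg.Agent.Lib.KnownSimple.ChevParabolicRadical
import Cfsg.Prelude.Def_ParabolicCharacters

/-!
Cosets of parabolic subgroups through the Bruhat normal form, and the fixed cosets of an element of
the Borel subgroup.
-/

set_option autoImplicit false

namespace CfsgLib.SteinbergChar

open Cfsg.Lie CfsgLib.ChevStr CfsgLib.ChevStr.ChevCore CfsgLib.KnownSimple
open scoped Classical MatrixGroups

variable {D : ChevalleyDatum} {F : Type*} [Field F] (C : ChevCore D F)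

/-- The standard parabolic subgroup of a finite index set. -/
abbrev P (D : ChevalleyDatum) (F : Type*) [Field F] (J : Finset ℕ) : Subgroup (GL D.Idx F) :=
  D.parabolicSubgroup F (J : Set ℕ)

theorem borel_le_P (J : Finset ℕ) : D.borelSubgroup F ≤ P D F J := le_sup_left

theorem P_mono {J K : Finset ℕ} (h : K ⊆ J) : P D F K ≤ P D F J := by
  refine sup_le le_sup_left ((Subgroup.closure_le _).2 ?_)
  rintro g ⟨j, hj, hjl, hg⟩
  exact Subgroup.mem_sup_right (Subgroup.subset_closure ⟨j, h hj, hjl, hg⟩)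

theorem P_le_closure (J : Finset ℕ) : P D F J ≤
    Subgroup.closure ((D.borelSubgroup F : Set (GL D.Idx F)) ∪ C.nS '' {i | i.val ∈ J}) := by
  refine sup_le (fun x hx => Subgroup.subset_closure (Or.inl hx)) ((Subgroup.closure_le _).2 ?_)
  rintro g ⟨j, hj, hjl, hg⟩
  exact Subgroup.subset_closure (Or.inr ⟨⟨j, hjl⟩, hj, Units.ext (by rw [hg, C.coe_nS])⟩)

/-- A monomial representative of an element of the Weyl group. -/
noncomputable def nw (w : Equiv.Perm (Fin D.nroots)) : GL D.Idx F :=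
  if h : w ∈ C.hR.weyl then (C.exists_rep h).choose else 1

theorem nw_mem {w : Equiv.Perm (Fin D.nroots)} (hw : w ∈ C.hR.weyl) :
    nw C w ∈ D.monomialSubgroup F := by
  rw [nw, dif_pos hw]
  exact C.rep_mem_monomial (C.exists_rep hw).choose_spec.1

theorem nw_moves {w : Equiv.Perm (Fin D.nroots)} (hw : w ∈ C.hR.weyl) : C.Moves (nw C w) w := by
  rw [nw, dif_pos hw]
  exact Acts.moves C (C.exists_rep hw).choose_spec.2

theorem diagonal_le_borel : D.diagonalSubgroup F ≤ D.borelSubgroup F := le_sup_right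

include C in
theorem P_le_group (J : Finset ℕ) : P D F J ≤ D.group F :=
  ChevRadical.parabolic_le_group C

theorem mem_borel_of_moves_one {n : GL D.Idx F} (hn : n ∈ D.monomialSubgroup F) (h : C.Moves n 1) :
    n ∈ D.borelSubgroup F :=
  diagonal_le_borel (C.mem_diagonal_of_moves_one hn h)

theorem nw_mem_P {J : Finset ℕ} {w : Equiv.Perm (Fin D.nroots)} (hw : w ∈ WS C.hR J) :
    nw C w ∈ P D F J := by
  obtain ⟨n, hn, hnN, hact⟩ := C.exists_rep_sub (F := F) hw
  have hwW := WS_le C.hR J hw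
  have h1 : C.Moves (nw C w * n⁻¹) 1 := by
    simpa using Moves.mul C (nw_moves C hwW) (Moves.inv C hnN (Acts.moves C hact))
  have h2 := mem_borel_of_moves_one C (mul_mem (nw_mem C hwW) (inv_mem hnN)) h1
  have := mul_mem (borel_le_P (F := F) J h2) hn
  rwa [inv_mul_cancel_right] at this

/-- The double cosets of the Borel subgroup met by a product with an element of a parabolic. -/
theorem left_cells {J : Finset ℕ} {g : GL D.Idx F} (hg : g ∈ P D F J) :
    ∀ (n y : GL D.Idx F) (x : Equiv.Perm (Fin D.nroots)), n ∈ D.monomialSubgroup F → C.Moves n x →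
      y ∈ C.bigCell n → ∃ a ∈ WS C.hR J, ∃ m ∈ D.monomialSubgroup F, C.Moves m (a * x) ∧
        g * y ∈ C.bigCell m := by
  have hB : ∀ b ∈ D.borelSubgroup F, ∀ (n y : GL D.Idx F), y ∈ C.bigCell n → b * y ∈ C.bigCell n :=
    fun b hb n y hy => by simpa using C.bigCell_mul hy hb (one_mem _)
  have hS : ∀ i : Fin D.rank, i.val ∈ J → ∀ (n y : GL D.Idx F) (x : Equiv.Perm (Fin D.nroots)),
      n ∈ D.monomialSubgroup F → C.Moves n x → y ∈ C.bigCell n →
      ∃ a ∈ WS C.hR J, ∃ m ∈ D.monomialSubgroup F, C.Moves m (a * x) ∧ C.nS i * y ∈ C.bigCell m := by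
    intro i hi n y x hn hx hy
    obtain ⟨b, hb, b', hb', rfl⟩ := C.mem_bigCell.1 hy
    rcases C.nS_mul_mem i hn hb with h | h
    · exact ⟨C.hR.sPerm i, C.hR.sPerm_mem_sub (mem_fs.2 hi), _, mul_mem (C.nS_mem_monomial i) hn,
        Moves.mul C (Acts.moves C (C.acts_nS i)) hx,
        by simpa [mul_assoc] using C.bigCell_mul h (one_mem _) hb'⟩
    · exact ⟨1, one_mem _, n, hn, by rwa [one_mul],
        by simpa [mul_assoc] using C.bigCell_mul h (one_mem _) hb'⟩
  refine Subgroup.closure_induction_left (p := fun g _ => ∀ (n y : GL D.Idx F)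
    (x : Equiv.Perm (Fin D.nroots)), n ∈ D.monomialSubgroup F → C.Moves n x → y ∈ C.bigCell n →
      ∃ a ∈ WS C.hR J, ∃ m ∈ D.monomialSubgroup F, C.Moves m (a * x) ∧ g * y ∈ C.bigCell m)
    ?_ ?_ ?_ (P_le_closure C J hg)
  · intro n y x hn hx hy
    exact ⟨1, one_mem _, n, hn, by rwa [one_mul], by rwa [one_mul]⟩
  · rintro s hs y' - ih n y x hn hx hy
    obtain ⟨a, ha, m, hm, hmx, hy'⟩ := ih n y x hn hx hy
    rcases hs with hs | ⟨i, hi, rfl⟩
    · exact ⟨a, ha, m, hm, hmx, by rw [mul_assoc]; exact hB s hs m _ hy'⟩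
    · obtain ⟨a', ha', m', hm', hmx', h⟩ := hS i hi m _ _ hm hmx hy'
      exact ⟨a' * a, mul_mem ha' ha, m', hm', by rwa [mul_assoc], by rwa [mul_assoc]⟩
  · rintro s hs y' - ih n y x hn hx hy
    obtain ⟨a, ha, m, hm, hmx, hy'⟩ := ih n y x hn hx hy
    rcases hs with hs | ⟨i, hi, rfl⟩
    · exact ⟨a, ha, m, hm, hmx, by rw [mul_assoc]; exact hB s⁻¹ (inv_mem hs) m _ hy'⟩
    · obtain ⟨a', ha', m', hm', hmx', h⟩ := hS i hi m _ _ hm hmx hy'
      obtain ⟨c, hc⟩ := C.nS_inv i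
      refine ⟨a' * a, mul_mem ha' ha, m', hm', by rwa [mul_assoc], ?_⟩
      rw [hc, mul_assoc, mul_assoc]
      exact hB _ (C.torus_mem_borel c) m' _ h

/-- An element of a parabolic subgroup lies in the cell of an element of its Weyl group. -/
theorem P_cells {J : Finset ℕ} {g : GL D.Idx F} (hg : g ∈ P D F J) :
    ∃ a ∈ WS C.hR J, ∃ m ∈ D.monomialSubgroup F, C.Moves m a ∧ g ∈ C.bigCell m := by
  obtain ⟨a, ha, m, hm, hmx, h⟩ := left_cells C hg 1 1 1 (one_mem _) (Acts.moves C C.acts_one)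
    (C.self_mem_bigCell 1)
  exact ⟨a, ha, m, hm, by simpa using hmx, by simpa using h⟩

/-- Products of a parabolic subgroup with a minimal representative stay in one cell. -/
theorem parabolic_mul {J : Finset ℕ} {p n : GL D.Idx F} {w : Equiv.Perm (Fin D.nroots)}
    (hn : n ∈ D.monomialSubgroup F) (hw : C.Moves n w) (hpos : PosOn C.R w⁻¹ J) (hp : p ∈ P D F J) :
    ∃ a ∈ WS C.hR J, ∃ m ∈ D.monomialSubgroup F, C.Moves m a ∧ p ∈ C.bigCell m ∧
      p * n ∈ C.bigCell (m * n) := by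
  obtain ⟨a, ha, m, hm, hma, hcell⟩ := P_cells C hp
  refine ⟨a, ha, m, hm, hma, hcell, ?_⟩
  obtain ⟨x, hx, y, hy, rfl⟩ := C.mem_bigCell.1 hcell
  obtain ⟨b, hb, u, hu, hbu⟩ := C.mul_borel_mem a (WS_le C.hR J ha) m hm hma y hy
  have hconj : n⁻¹ * u * n⁻¹⁻¹ ∈ D.borelSubgroup F := by
    refine C.conj_Ucl_le (Moves.inv C hn hw) (T := D.borelSubgroup F) (fun s hs t => ?_) u hu
    rw [C.hR.mem_invRoots] at hs
    exact C.pos_mem_borel (apply_pos C.hR (inv_mem hw.1) hpos hs.1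
      (invSet_supp' C.hR ha (C.hR.mem_invSet.2 hs))) t
  refine C.mem_bigCell.2 ⟨x * b, mul_mem hx hb, n⁻¹ * u * n⁻¹⁻¹, hconj, ?_⟩
  calc x * m * y * n = x * (m * y) * n := by group
    _ = _ := by rw [hbu]; group

/-- A conjugate of a Borel element by a minimal representative lies in a parabolic only if it lies
in the Borel subgroup. -/
theorem mem_borel_of_conj_mem {J : Finset ℕ} {n z : GL D.Idx F} {w : Equiv.Perm (Fin D.nroots)}
    (hn : n ∈ D.monomialSubgroup F) (hw : C.Moves n w) (hpos : PosOn C.R w⁻¹ J)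
    (hz : z ∈ D.borelSubgroup F) (h : n * z * n⁻¹ ∈ P D F J) :
    n * z * n⁻¹ ∈ D.borelSubgroup F := by
  obtain ⟨a, ha, m, hm, hma, hcell, hmul⟩ := parabolic_mul C hn hw hpos h
  have h1 : n * z * n⁻¹ * n ∈ C.bigCell n := by
    rw [inv_mul_cancel_right]
    simpa using C.bigCell_mul (C.self_mem_bigCell n) (one_mem _) hz
  have h2 : m * n ∈ C.bigCell n := C.bigCell_trans (C.bigCell_symm hmul) h1
  have h3 := C.moves_eq_of_mem (mul_mem hm hn) hn (Moves.mul C hma hw) hw h2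
  have ha1 : a = 1 := mul_eq_right.1 h3
  rw [ha1] at hma
  obtain ⟨x, hx, y, hy, e⟩ := C.mem_bigCell.1 hcell
  rw [e]
  exact mul_mem (mul_mem hx (mem_borel_of_moves_one C hm hma)) hy

/-- The minimal representatives of the cosets of `K` inside `A`. -/
noncomputable def Mrep (A K : Finset ℕ) : Finset (Equiv.Perm (Fin D.nroots)) :=
  Finset.univ.filter fun w => w ∈ WS C.hR A ∧ PosOn C.R w⁻¹ K

theorem mem_Mrep {A K : Finset ℕ} {w : Equiv.Perm (Fin D.nroots)} :
    w ∈ Mrep C A K ↔ w ∈ WS C.hR A ∧ PosOn C.R w⁻¹ K := by simp [Mrep]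

/-- The parameters of the cosets. -/
abbrev Par (A K : Finset ℕ) := Σ w : {w // w ∈ Mrep C A K}, C.Ucl (C.hR.invRoots w.1)

/-- The element attached to a parameter. -/
noncomputable def parEl {A K : Finset ℕ} (x : Par C A K) : GL D.Idx F :=
  nw C x.1.1 * (x.2 : GL D.Idx F)

theorem parEl_mem {A K : Finset ℕ} (x : Par C A K) : parEl C x ∈ P D F A :=
  mul_mem (nw_mem_P C (mem_Mrep C |>.1 x.1.2).1) (borel_le_P A (C.Ucl_invRoots_le _ x.2.2))

/-- The coset of a parameter. -/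
noncomputable def parCoset {H : Subgroup (GL D.Idx F)} {A K : Finset ℕ} (hH : H = P D F A)
    (x : Par C A K) : ↥H ⧸ (P D F K).subgroupOf H :=
  QuotientGroup.mk ⟨(parEl C x)⁻¹, by rw [hH]; exact inv_mem (parEl_mem C x)⟩

theorem parCoset_bijective {H : Subgroup (GL D.Idx F)} {A K : Finset ℕ} (hH : H = P D F A)
    (hKA : K ⊆ A) : Function.Bijective (parCoset C (K := K) hH) := by
  subst hH
  constructor
  · intro x y e
    simp only [parCoset, QuotientGroup.eq, Subgroup.mem_subgroupOf] at e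
    obtain ⟨⟨w, hw⟩, u, hu⟩ := x
    obtain ⟨⟨w', hw'⟩, u', hu'⟩ := y
    simp only [parEl, InvMemClass.coe_inv, MulMemClass.coe_mul, inv_inv] at e
    obtain ⟨hwA, hwpos⟩ := (mem_Mrep C).1 hw
    obtain ⟨hwA', hwpos'⟩ := (mem_Mrep C).1 hw'
    have hwW := WS_le C.hR A hwA
    have hwW' := WS_le C.hR A hwA'
    obtain ⟨p, hp, hpe⟩ : ∃ p ∈ P D F K, nw C w * u = p * (nw C w' * u') :=
      ⟨_, e, by group⟩
    obtain ⟨a, ha, m, hm, hma, hcell, hmul⟩ :=
      parabolic_mul C (nw_mem C hwW') (nw_moves C hwW') hwpos' hp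
    have h1 : nw C w * u ∈ C.bigCell (m * nw C w') := by
      rw [hpe, ← mul_assoc]
      simpa using C.bigCell_mul hmul (one_mem _) (C.Ucl_invRoots_le _ hu')
    have h2 : nw C w ∈ C.bigCell (m * nw C w') := by
      simpa [mul_assoc] using C.bigCell_mul h1 (one_mem _) (inv_mem (C.Ucl_invRoots_le _ hu))
    have h3 := C.moves_eq_of_mem (nw_mem C hwW) (mul_mem hm (nw_mem C hwW')) (nw_moves C hwW)
      (Moves.mul C hma (nw_moves C hwW')) h2
    have ha1 : a⁻¹ = 1 := by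
      refine min_unique C.hR (inv_mem hwW') (inv_mem ha) hwpos' ?_
      rwa [← mul_inv_rev, ← h3]
    rw [inv_eq_one] at ha1
    rw [ha1, one_mul] at h3
    subst h3
    rw [ha1] at hma
    have hpB : p ∈ D.borelSubgroup F := by
      obtain ⟨x, hx, z, hz, he⟩ := C.mem_bigCell.1 hcell
      rw [he]
      exact mul_mem (mul_mem hx (mem_borel_of_moves_one C hm hma)) hz
    obtain ⟨-, -, h5⟩ := C.normalForm_unique (one_mem _) hpB (nw_mem C hwW) (nw_mem C hwW)
      (nw_moves C hwW) (nw_moves C hwW) hu hu' (by rw [one_mul, hpe, mul_assoc])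
    obtain ⟨-, h6⟩ := h5 rfl
    subst h6
    rfl
  · intro q
    induction q using QuotientGroup.induction_on with | _ g => ?_
    obtain ⟨g, hg⟩ := g
    obtain ⟨w, hwW, b, hb, n, hn, hnw, u, hu, hgw⟩ :=
      C.normalForm_exists (P_le_group C A (inv_mem hg))
    obtain ⟨a, ha, m, hm, hma, hcell⟩ := P_cells C (inv_mem hg)
    have hwA : w ∈ WS C.hR A := by
      have h1 : g⁻¹ ∈ C.bigCell n := C.mem_bigCell.2 ⟨b, hb, u, C.Ucl_invRoots_le _ hu, hgw⟩
      rw [C.moves_eq_of_mem hn hm hnw hma (C.bigCell_trans (C.bigCell_symm h1) hcell)]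
      exact ha
    obtain ⟨x, v, hxW, hxpos, hv, hxv⟩ := exists_min C.hR (J := K) (inv_mem hwW)
    have hw' : x⁻¹ ∈ Mrep C A K := by
      refine (mem_Mrep C).2 ⟨inv_mem ?_, by rwa [inv_inv]⟩
      rw [show x = w⁻¹ * v⁻¹ by rw [hxv, mul_inv_cancel_right]]
      exact mul_mem (inv_mem hwA) (inv_mem (WS_mono C.hR hKA hv))
    have hvinv : v⁻¹ ∈ WS C.hR K := inv_mem hv
    have hvW := WS_le C.hR K hvinv
    have hxW' := inv_mem hxW
    obtain ⟨b', hb', u', hu', hbu⟩ := C.mul_borel_mem x⁻¹ hxW' (nw C x⁻¹) (nw_mem C hxW')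
      (nw_moves C hxW') u (C.Ucl_invRoots_le _ hu)
    have hd : n * (nw C v⁻¹ * nw C x⁻¹)⁻¹ ∈ D.borelSubgroup F := by
      refine mem_borel_of_moves_one C (mul_mem hn (inv_mem (mul_mem (nw_mem C hvW) (nw_mem C hxW')))) ?_
      have h := Moves.mul C hnw (Moves.inv C (mul_mem (nw_mem C hvW) (nw_mem C hxW'))
        (Moves.mul C (nw_moves C hvW) (nw_moves C hxW')))
      rwa [← mul_inv_rev, ← hxv, inv_inv, mul_inv_cancel] at h
    refine ⟨⟨⟨x⁻¹, hw'⟩, ⟨u', hu'⟩⟩, ?_⟩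
    simp only [parCoset, QuotientGroup.eq, Subgroup.mem_subgroupOf, parEl, InvMemClass.coe_inv,
      MulMemClass.coe_mul, inv_inv]
    set p := b * (n * (nw C v⁻¹ * nw C x⁻¹)⁻¹) * nw C v⁻¹ * b' with hp
    have hpK : p ∈ P D F K := mul_mem (mul_mem (borel_le_P K (mul_mem hb hd)) (nw_mem_P C hvinv))
      (borel_le_P K hb')
    have hge : g⁻¹ = p * (nw C x⁻¹ * u') := by
      rw [hgw]
      calc b * n * u = b * (n * (nw C v⁻¹ * nw C x⁻¹)⁻¹) * nw C v⁻¹ * (nw C x⁻¹ * u) := by group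
        _ = _ := by rw [hbu, hp]; group
    have : nw C x⁻¹ * u' * g = p⁻¹ := by
      rw [show nw C x⁻¹ * u' = p⁻¹ * g⁻¹ by rw [hge, inv_mul_cancel_left], inv_mul_cancel_right]
    rw [this]
    exact inv_mem hpK

/-- The number of fixed points of `y` in the cell of `w`. -/
noncomputable def cellFix (y : GL D.Idx F) (w : Equiv.Perm (Fin D.nroots)) : ℕ :=
  Nat.card {u : C.Ucl (C.hR.invRoots w) //
    nw C w * ((u : GL D.Idx F) * y * (u : GL D.Idx F)⁻¹) * (nw C w)⁻¹ ∈ D.borelSubgroup F}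

variable [Finite F]

theorem fixedPointCharacter_eq {H : Subgroup (GL D.Idx F)} {A K : Finset ℕ} (hH : H = P D F A)
    (hKA : K ⊆ A) (y : H) (hy : (y : GL D.Idx F) ∈ D.borelSubgroup F) :
    Cfsg.fixedPointCharacter ((P D F K).subgroupOf H) y =
      ∑ w ∈ Mrep C A K, (cellFix C (y : GL D.Idx F) w : ℂ) := by
  subst hH
  have hbij := parCoset_bijective C (K := K) (rfl : P D F A = P D F A) hKA
  have hiff : ∀ x : Par C A K, y • parCoset C rfl x = parCoset C rfl x ↔
      nw C x.1.1 * ((x.2 : GL D.Idx F) * (y : GL D.Idx F) * (x.2 : GL D.Idx F)⁻¹) * (nw C x.1.1)⁻¹ ∈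
        D.borelSubgroup F := by
    rintro ⟨⟨w, hw⟩, u, hu⟩
    obtain ⟨hwA, hwpos⟩ := (mem_Mrep C).1 hw
    have hwW := WS_le C.hR A hwA
    rw [eq_comm]
    simp only [parCoset, MulAction.Quotient.smul_mk, QuotientGroup.eq, Subgroup.mem_subgroupOf,
      smul_eq_mul, parEl, InvMemClass.coe_inv, MulMemClass.coe_mul, inv_inv]
    rw [show nw C w * u * ((y : GL D.Idx F) * (nw C w * u)⁻¹) =
      nw C w * (u * (y : GL D.Idx F) * u⁻¹) * (nw C w)⁻¹ by group]
    refine ⟨mem_borel_of_conj_mem C (nw_mem C hwW) (nw_moves C hwW) hwpos ?_, fun h => borel_le_P K h⟩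
    exact mul_mem (mul_mem (C.Ucl_invRoots_le _ hu) hy) (inv_mem (C.Ucl_invRoots_le _ hu))
  rw [Cfsg.fixedPointCharacter, ← Nat.cast_sum, Nat.cast_inj]
  let e := (Equiv.ofBijective _ hbij).subtypeEquiv (p := fun x => y • parCoset C rfl x = parCoset C rfl x)
    (q := fun q => y • q = q) fun x => Iff.rfl
  show Nat.card {q // y • q = q} = _
  rw [← Nat.card_congr e, Nat.card_congr (Equiv.subtypeEquivRight hiff)]
  let e'' : {x : Par C A K // nw C x.1.1 * ((x.2 : GL D.Idx F) * (y : GL D.Idx F) *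
      (x.2 : GL D.Idx F)⁻¹) * (nw C x.1.1)⁻¹ ∈ D.borelSubgroup F} ≃
      Σ w : {w // w ∈ Mrep C A K}, {u : C.Ucl (C.hR.invRoots w.1) //
        nw C w.1 * ((u : GL D.Idx F) * (y : GL D.Idx F) * (u : GL D.Idx F)⁻¹) * (nw C w.1)⁻¹ ∈
          D.borelSubgroup F} :=
    { toFun := fun x => ⟨x.1.1, ⟨x.1.2, x.2⟩⟩
      invFun := fun x => ⟨⟨x.1, x.2.1⟩, x.2.2⟩
      left_inv := fun _ => rfl
      right_inv := fun _ => rfl }
  rw [Nat.card_congr e'', Nat.card_sigma]
  exact Finset.sum_coe_sort (Mrep C A K) (fun w => cellFix C (y : GL D.Idx F) w)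

/-- The longest element of a parabolic subgroup of the Weyl group. -/
noncomputable def w0 (A : Finset ℕ) : Equiv.Perm (Fin D.nroots) :=
  (exists_negOn C.hR A).choose

omit [Finite F] in
theorem w0_mem (A : Finset ℕ) : w0 C A ∈ WS C.hR A := (exists_negOn C.hR A).choose_spec.1

omit [Finite F] in
theorem w0_neg (A : Finset ℕ) : NegOn C.R (w0 C A) A := (exists_negOn C.hR A).choose_spec.2

/-- The alternating sum of the fixed point characters is supported on the top cell. -/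
theorem alt_eq {H : Subgroup (GL D.Idx F)} {A : Finset ℕ} (hH : H = P D F A)
    (hA : A ⊆ Finset.range D.rank) (y : H) (hy : (y : GL D.Idx F) ∈ D.borelSubgroup F) :
    ∑ K ∈ A.powerset, (-1 : ℂ) ^ K.card * Cfsg.fixedPointCharacter ((P D F K).subgroupOf H) y =
      (cellFix C (y : GL D.Idx F) (w0 C A) : ℂ) := by
  have h1 : ∀ K ∈ A.powerset,
      (-1 : ℂ) ^ K.card * Cfsg.fixedPointCharacter ((P D F K).subgroupOf H) y =
        ∑ w ∈ Finset.univ.filter (fun w => w ∈ WS C.hR A), (cellFix C (y : GL D.Idx F) w : ℂ) *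
          (((if PosOn C.R w⁻¹ K then (-1 : ℤ) ^ K.card else 0) : ℤ) : ℂ) := by
    intro K hK
    rw [fixedPointCharacter_eq C hH (Finset.mem_powerset.1 hK) y hy, Finset.mul_sum, Mrep,
      ← Finset.filter_filter, Finset.sum_filter]
    refine Finset.sum_congr rfl fun w _ => ?_
    split_ifs <;> push_cast <;> ring
  rw [Finset.sum_congr rfl h1, Finset.sum_comm]
  rw [Finset.sum_eq_single (w0 C A)]
  · rw [← Finset.mul_sum, ← Int.cast_sum, sum_posOn C.hR _ hA, negOn_inv C.hR (w0_mem C A) (w0_neg C A),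
      if_pos (w0_neg C A), Int.cast_one, mul_one]
  · intro w hw hne
    rw [← Finset.mul_sum, ← Int.cast_sum, sum_posOn C.hR _ hA, if_neg, Int.cast_zero, mul_zero]
    intro hneg
    rw [Finset.mem_filter] at hw
    refine hne ?_
    have h := negOn_unique C.hR (inv_mem hw.2) (w0_mem C A) hneg (w0_neg C A)
    rw [inv_eq_iff_eq_inv, negOn_inv C.hR (w0_mem C A) (w0_neg C A)] at h
    exact h
  · intro h
    exact absurd (Finset.mem_filter.2 ⟨Finset.mem_univ _, w0_mem C A⟩) h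

omit [Finite F] in
theorem invRoots_w0 (A : Finset ℕ) :
    C.hR.invRoots (w0 C A) = {r | D.IsPosRoot r ∧ D.InRootSub (A : Set ℕ) r} := by
  ext r
  constructor
  · rintro ⟨hr, h⟩
    refine ⟨(C.hR.mem_invSet.1 h).1, C.hR.inRootSub_iff.2 ⟨hr, fun i hi => ?_⟩⟩
    exact invSet_supp' C.hR (w0_mem C A) h i fun hiA => hi (mem_fs.2 hiA)
  · rintro ⟨hpos, hin⟩
    refine ⟨hpos.1, C.hR.mem_invSet.2 ⟨hpos, negOn_apply C.hR (WS_le C.hR A (w0_mem C A)) (w0_neg C A) hpos
      fun m hm => (C.hR.inRootSub_iff.1 hin).2 m fun h => hm (mem_fs.1 h)⟩⟩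

omit [Finite F] in
/-- Conjugation by the longest element keeps exactly `U_A H` inside the Borel subgroup. -/
theorem w0_conj_iff (A : Finset ℕ) {z : GL D.Idx F} (hz : z ∈ D.borelSubgroup F) :
    nw C (w0 C A) * z * (nw C (w0 C A))⁻¹ ∈ D.borelSubgroup F ↔
      ∃ r ∈ D.unipotentRadical F (A : Set ℕ), ∃ t ∈ D.diagonalSubgroup F, z = r * t := by
  have hwW := WS_le C.hR A (w0_mem C A)
  have hnP := nw_mem_P C (w0_mem C A)
  set n := nw C (w0 C A) with hn
  have hrad : ∀ r ∈ D.unipotentRadical F (A : Set ℕ), n * r * n⁻¹ ∈ D.borelSubgroup F := fun r hr =>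
    C.radical_le_borel ((Subgroup.mem_normalizer_iff.1 (C.parabolic_le_normalizer hnP) r).1 hr)
  have htor : ∀ t ∈ D.diagonalSubgroup F, n * t * n⁻¹ ∈ D.borelSubgroup F := fun t ht =>
    diagonal_le_borel (C.conj_diagonal_mem (nw_mem C hwW) ht)
  constructor
  · intro h
    obtain ⟨u, hu, c, rfl⟩ := C.mem_borel.1 hz
    obtain ⟨r, hr, v, hv, rfl⟩ := ChevRadical.posUnipotent_decomp (J := (A : Set ℕ)) C hu
    have hc : C.R.torus c ∈ D.diagonalSubgroup F := by rw [C.diagonalSubgroup_eq]; exact ⟨c, rfl⟩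
    rw [← invRoots_w0 C A] at hv
    have h1 : n * v * n⁻¹ ∈ D.borelSubgroup F := by
      have := mul_mem (mul_mem (inv_mem (hrad r hr)) h) (inv_mem (htor _ hc))
      rwa [show (n * r * n⁻¹)⁻¹ * (n * (r * v * C.R.torus c) * n⁻¹) * (n * C.R.torus c * n⁻¹)⁻¹ =
        n * v * n⁻¹ by group] at this
    have h2 := (Subgroup.eq_bot_iff_forall _).1 C.borel_inf_negUnipotent _
      (Subgroup.mem_inf.2 ⟨h1, C.conj_invRoots_mem_neg (nw_moves C hwW) v hv⟩)
    rw [mul_inv_eq_one, mul_eq_left] at h2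
    exact ⟨r, hr, C.R.torus c, hc, by rw [h2, mul_one]⟩
  · rintro ⟨r, hr, t, ht, rfl⟩
    rw [show n * (r * t) * n⁻¹ = (n * r * n⁻¹) * (n * t * n⁻¹) by group]
    exact mul_mem (hrad r hr) (htor t ht)

end CfsgLib.SteinbergChar
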