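import Cfsg.Agent.Lib.Chars17.MatRep
import Mathlib

/-!
An irreducible representation whose restriction to a Sylow `p`-subgroup `U` is free: if the double
cosets of `U` meeting no conjugate of `U` non-trivially come from one element and an abelian group
normalising `U`, then the fixed space of `U` is a line, and the Hecke operator of that element acts on
it by an algebraic integer not divisible by `p`.
-/

set_option autoImplicit false

namespace CfsgLib.SteinbergChar.DefectZero

open Matrix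
open scoped Classical

variable {G : Type*} [Group G] [Fintype G] {n : ℕ}

/-- Square complex matrices. -/
abbrev Mt (n : ℕ) := Matrix (Fin n) (Fin n) ℂ

/-- The average over a subgroup. -/
noncomputable def avg (R : G →* (Mt n)) (U : Subgroup G) : (Mt n) :=
  (Nat.card U : ℂ)⁻¹ • ∑ u : U, R u

/-- The stabilizer of a coset in `U`. -/
def stab (U : Subgroup G) (g : G) : Subgroup G := U ⊓ U.map (MulAut.conj g).toMonoidHom

theorem mem_stab {U : Subgroup G} {g s : G} : s ∈ stab U g ↔ s ∈ U ∧ g⁻¹ * s * g ∈ U := by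
  simp only [stab, Subgroup.mem_inf, Subgroup.mem_map]
  refine and_congr_right fun _ => ⟨?_, fun h => ⟨g⁻¹ * s * g, h, ?_⟩⟩
  · rintro ⟨x, hx, rfl⟩
    simpa [mul_assoc] using hx
  · simp [mul_assoc]

variable (R : G →* (Mt n)) (U : Subgroup G)

noncomputable instance : Fintype (DoubleCoset.Quotient (U : Set G) U) :=
  Fintype.ofSurjective (DoubleCoset.mk U U) Quotient.mk''_surjective

theorem card_ne_zero : (Nat.card U : ℂ) ≠ 0 := Nat.cast_ne_zero.2 Nat.card_pos.ne'

theorem R_avg {x : G} (hx : x ∈ U) : R x * avg R U = avg R U := by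
  rw [avg, mul_smul_comm, Finset.mul_sum]
  congr 1
  exact Fintype.sum_equiv (Equiv.mulLeft (⟨x, hx⟩ : U)) _ _ fun u => by simp

theorem avg_R {x : G} (hx : x ∈ U) : avg R U * R x = avg R U := by
  rw [avg, smul_mul_assoc, Finset.sum_mul]
  congr 1
  exact Fintype.sum_equiv (Equiv.mulRight (⟨x, hx⟩ : U)) _ _ fun u => by simp

theorem avg_mul_avg : avg R U * avg R U = avg R U := by
  nth_rewrite 1 [avg]
  rw [smul_mul_assoc, Finset.sum_mul, Finset.sum_congr rfl fun u _ => R_avg R U u.2,
    Finset.sum_const, Finset.card_univ, ← Nat.card_eq_fintype_card, ← Nat.cast_smul_eq_nsmul ℂ, smul_smul,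
    inv_mul_cancel₀ (card_ne_zero U), one_smul]

theorem avg_commute {x : G} (hx : x ∈ Subgroup.normalizer (U : Set G)) :
    R x * avg R U = avg R U * R x := by
  rw [avg, mul_smul_comm, smul_mul_assoc, Finset.mul_sum, Finset.sum_mul]
  congr 1
  refine Fintype.sum_equiv ((MulAut.conj x).toEquiv.subtypeEquiv
    (fun u => Subgroup.mem_normalizer_iff.1 hx u) : U ≃ U) _ _ fun u => ?_
  rw [← map_mul, ← map_mul]
  congr 1
  show x * (u : G) = x * (u : G) * x⁻¹ * x
  group

theorem schur (hR : Cfsg.IsIrrCharacter G fun g => (R g).trace) (hn : 0 < n) (A : (Mt n)) :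
    ∑ g : G, (A * R g).trace • R g⁻¹ = ((Nat.card G : ℂ) / n) • A := by
  have key : ∀ M : (Mt n), ∑ g : G, R g⁻¹ * M * R g = ((Nat.card G : ℂ) / n * M.trace) • 1 := by
    intro M
    have hcomm : ∀ x, R x * (∑ g : G, R g⁻¹ * M * R g) = (∑ g : G, R g⁻¹ * M * R g) * R x := by
      intro x
      rw [Finset.mul_sum, Finset.sum_mul]
      refine Fintype.sum_equiv (Equiv.mulRight x⁻¹) _ _ fun g => ?_
      simp only [Equiv.coe_mulRight, _root_.mul_inv_rev, inv_inv, map_mul, mul_assoc]
      rw [← map_mul R x⁻¹ x, inv_mul_cancel, map_one, mul_one]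
    obtain ⟨c, hc⟩ := CfsgLib.Chars17.scalar_of_commute R hR hcomm
    have ht := congrArg Matrix.trace hc
    have h1 : ∀ g : G, (R g⁻¹ * M * R g).trace = M.trace := fun g => by
      rw [Matrix.trace_mul_comm, ← mul_assoc, ← map_mul, mul_inv_cancel, map_one, one_mul]
    simp only [Matrix.trace_sum, h1, Finset.sum_const, Finset.card_univ, Matrix.trace_smul,
      Matrix.trace_one, Fintype.card_fin, nsmul_eq_mul, smul_eq_mul] at ht
    rw [hc]
    congr 1
    have hn' : (n : ℂ) ≠ 0 := Nat.cast_ne_zero.2 hn.ne'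
    rw [Nat.card_eq_fintype_card]
    field_simp
    linear_combination -ht
  ext i l
  simp only [Matrix.sum_apply, Matrix.smul_apply, smul_eq_mul, Matrix.trace, Matrix.diag, Matrix.mul_apply,
    Finset.sum_mul]
  rw [Finset.sum_comm]
  simp only [Finset.sum_comm (s := (Finset.univ : Finset G))]
  have hentry : ∀ a b : Fin n, ∑ g : G, R g⁻¹ i l * R g b a =
      (Nat.card G : ℂ) / n * (if b = l then 1 else 0) * (if i = a then 1 else 0) := by
    intro a b
    have h := congrFun (congrFun (key (Matrix.single l b 1)) i) a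
    simp only [Matrix.sum_apply, Matrix.mul_apply, Matrix.single, Matrix.of_apply, Matrix.smul_apply,
      Matrix.one_apply, smul_eq_mul, mul_ite, mul_one, mul_zero] at h
    simp only [Matrix.trace, Matrix.diag, Matrix.of_apply] at h
    simpa [ite_and, Finset.sum_ite_eq, mul_comm] using h
  have : ∀ a b : Fin n, ∑ g : G, A a b * R g b a * R g⁻¹ i l =
      A a b * ((Nat.card G : ℂ) / n * (if b = l then 1 else 0) * (if i = a then 1 else 0)) := by
    intro a b
    rw [← hentry a b, Finset.mul_sum]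
    exact Finset.sum_congr rfl fun g _ => by ring
  simp only [this]
  simp [mul_comm]

/-- The Hecke operator. -/
noncomputable def T (g : G) : (Mt n) :=
  ((Nat.card U : ℂ) / (Nat.card (stab U g) : ℂ)) • (avg R U * R g * avg R U)

theorem T_eq_sum (g : G) : T R U g =
    (∑ q : U ⧸ (stab U g).subgroupOf U, R ((q.out : U) * g)) * avg R U := by
  set S := (stab U g).subgroupOf U with hS
  have hs : ∀ s : S, R ((s : U) : G) * R g * avg R U = R g * avg R U := by
    intro s
    have h2 := (mem_stab.1 (Subgroup.mem_subgroupOf.1 s.2)).2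
    rw [← map_mul, show ((s : U) : G) * g = g * (g⁻¹ * ((s : U) : G) * g) by group, map_mul, mul_assoc,
      R_avg R U h2]
  have hsum : ∑ u : U, R u * R g * avg R U =
      (Nat.card S : ℂ) • ∑ q : U ⧸ S, R ((q.out : U) * g) * avg R U := by
    have hmk : ∀ (q : U ⧸ S) (s : S), ((q.out * (s : U) : U) : U ⧸ S) = q := fun q s => by
      rw [QuotientGroup.mk_mul_of_mem _ s.2, QuotientGroup.out_eq']
    let E : (U ⧸ S) × S ≃ U := Equiv.ofBijective (fun x => x.1.out * (x.2 : U)) ⟨by
        rintro ⟨q, s⟩ ⟨q', s'⟩ h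
        simp only at h
        obtain rfl : q = q' := by rw [← hmk q s, h, hmk q' s']
        obtain rfl : s = s' := Subtype.ext (mul_left_cancel h)
        rfl,
      fun u => ⟨((u : U ⧸ S), ⟨(u : U ⧸ S).out⁻¹ * u, QuotientGroup.eq.1 (QuotientGroup.out_eq' _)⟩),
        mul_inv_cancel_left _ _⟩⟩
    rw [← E.sum_comp, Fintype.sum_prod_type, Finset.smul_sum]
    refine Finset.sum_congr rfl fun q _ => ?_
    have : ∀ s : S, R ((E (q, s) : U) : G) * R g * avg R U = R ((q.out : U) * g) * avg R U := by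
      intro s
      show R ((q.out * (s : U) : U) : G) * R g * avg R U = _
      rw [Subgroup.coe_mul, map_mul, map_mul, mul_assoc (R _) (R _) (R g), mul_assoc (R _) (_ * _),
        hs, mul_assoc]
    rw [Finset.sum_congr rfl fun s _ => this s, Finset.sum_const, Finset.card_univ, ← Nat.card_eq_fintype_card,
      ← Nat.cast_smul_eq_nsmul ℂ]
  have hcard : Nat.card S = Nat.card (stab U g) :=
    Nat.card_congr (Subgroup.subgroupOfEquivOfLe inf_le_left).toEquiv
  have hS0 : (Nat.card (stab U g) : ℂ) ≠ 0 := Nat.cast_ne_zero.2 Nat.card_pos.ne'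
  rw [T, Finset.sum_mul]
  nth_rewrite 1 [avg]
  rw [smul_mul_assoc, smul_mul_assoc, Finset.sum_mul, Finset.sum_mul, hsum, smul_smul, smul_smul, hcard]
  rw [show (Nat.card U : ℂ) / (Nat.card (stab U g) : ℂ) * (Nat.card U : ℂ)⁻¹ *
    (Nat.card (stab U g) : ℂ) = 1 by field_simp [card_ne_zero U], one_smul]

theorem stab_card_mul {a b g : G} (ha : a ∈ U) (hb : b ∈ U) :
    Nat.card (stab U (a * g * b)) = Nat.card (stab U g) := by
  refine Nat.card_congr ((MulAut.conj a⁻¹).toEquiv.subtypeEquiv fun s => ?_)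
  show s ∈ stab U (a * g * b) ↔ a⁻¹ * s * a⁻¹⁻¹ ∈ stab U g
  rw [inv_inv, mem_stab, mem_stab, Subgroup.mul_mem_cancel_right _ ha,
    Subgroup.mul_mem_cancel_left _ (inv_mem ha)]
  have e : (a * g * b)⁻¹ * s * (a * g * b) = b⁻¹ * (g⁻¹ * (a⁻¹ * s * a) * g) * b := by group
  rw [e, Subgroup.mul_mem_cancel_right _ hb, Subgroup.mul_mem_cancel_left _ (inv_mem hb)]

theorem T_mul {a b : G} (ha : a ∈ U) (hb : b ∈ U) (g : G) : T R U (a * g * b) = T R U g := by
  rw [T, T, stab_card_mul U ha hb, map_mul, map_mul]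
  congr 1
  rw [← mul_assoc (avg R U), ← mul_assoc (avg R U), avg_R R U ha, mul_assoc _ (R b), R_avg R U hb]

theorem stab_card_inv (g : G) : Nat.card (stab U g⁻¹) = Nat.card (stab U g) := by
  refine Nat.card_congr ((MulAut.conj g).toEquiv.subtypeEquiv fun s => ?_)
  show s ∈ stab U g⁻¹ ↔ g * s * g⁻¹ ∈ stab U g
  rw [mem_stab, mem_stab, inv_inv, show g⁻¹ * (g * s * g⁻¹) * g = s by group, and_comm]

/-- An element of the group ring stabilising the fixed space. -/
def IsHecke (X : (Mt n)) : Prop :=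
  ∃ a : MonoidAlgebra ℤ G, X = MonoidAlgebra.lift ℤ (Mt n) G R a * avg R U ∧ avg R U * X = X

theorem isHecke_T (g : G) : IsHecke R U (T R U g) := by
  refine ⟨∑ q : U ⧸ (stab U g).subgroupOf U, MonoidAlgebra.of ℤ G ((q.out : U) * g), ?_, ?_⟩
  · rw [T_eq_sum, map_sum]
    simp only [MonoidAlgebra.lift_of]
  · rw [T, mul_smul_comm, ← mul_assoc, ← mul_assoc, avg_mul_avg]

theorem IsHecke.mul {X Y : (Mt n)} (hX : IsHecke R U X) (hY : IsHecke R U Y) : IsHecke R U (X * Y) := by
  obtain ⟨a, rfl, ha⟩ := hX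
  obtain ⟨b, rfl, hb⟩ := hY
  refine ⟨a * b, ?_, by rw [← mul_assoc, ha]⟩
  rw [map_mul, mul_assoc, hb, ← mul_assoc]

theorem IsHecke.trace_isIntegral {X : (Mt n)} (hX : IsHecke R U X) : IsIntegral ℤ X.trace := by
  obtain ⟨a, hXa, hfix⟩ := hX
  obtain ⟨f, hf, hfa⟩ : IsIntegral ℤ (MonoidAlgebra.lift ℤ (Mt n) G R a) :=
    (IsIntegral.of_finite ℤ a).map _
  rw [← Polynomial.aeval_def] at hfa
  have hpow : ∀ i, X ^ (i + 1) = (MonoidAlgebra.lift ℤ (Mt n) G R a) ^ (i + 1) * avg R U := by
    intro i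
    induction i with
    | zero => rw [pow_one, pow_one, ← hXa]
    | succ i ih => rw [pow_succ, ih, mul_assoc, hfix, hXa, ← mul_assoc, ← pow_succ]
  have hg : Polynomial.aeval X (Polynomial.X * f) = 0 := by
    have h1 : ∀ f : Polynomial ℤ, Polynomial.aeval X (Polynomial.X * f) =
        Polynomial.aeval (MonoidAlgebra.lift ℤ (Mt n) G R a) (Polynomial.X * f) * avg R U := by
      intro f
      induction f using Polynomial.induction_on' with
      | add p q hp hq => rw [mul_add, map_add, map_add, hp, hq, add_mul]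
      | monomial i c =>
        rw [Polynomial.X_mul_monomial, Polynomial.aeval_monomial, Polynomial.aeval_monomial, hpow,
          mul_assoc]
    rw [h1 f, map_mul, hfa, mul_zero, zero_mul]
  rw [Matrix.trace_eq_sum_roots_charpoly]
  refine IsIntegral.multiset_sum fun r hr => ?_
  have hspec : r ∈ spectrum ℂ X :=
    Matrix.mem_spectrum_iff_isRoot_charpoly.2 (Polynomial.isRoot_of_mem_roots hr)
  refine ⟨Polynomial.X * f, Polynomial.monic_X.mul hf, ?_⟩
  rw [← Polynomial.aeval_def]
  set g := (Polynomial.X * f).map (algebraMap ℤ ℂ) with hgdef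
  have h2 : Polynomial.eval r g ∈ spectrum ℂ (Polynomial.aeval X g) :=
    spectrum.subset_polynomial_aeval X g ⟨r, hspec, rfl⟩
  rw [hgdef, Polynomial.aeval_map_algebraMap, hg] at h2
  have : Nontrivial (Mt n) := by
    rcases Nat.eq_zero_or_pos n with rfl | hpos
    · simp [Matrix.charpoly] at hr
    · have : Nonempty (Fin n) := ⟨⟨0, hpos⟩⟩
      infer_instance
  rw [spectrum.zero_eq, Set.mem_singleton_iff, Polynomial.eval_map] at h2
  rw [Polynomial.aeval_def]
  exact h2

theorem card_fiber (g : G) :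
    (Finset.univ.filter fun x : G => DoubleCoset.mk U U x = DoubleCoset.mk U U g).card *
      Nat.card (stab U g) = Nat.card U * Nat.card U := by
  have hmaps : ∀ ab ∈ (Finset.univ : Finset (U × U)),
      (ab.1 : G) * g * ab.2 ∈ Finset.univ.filter fun x : G => DoubleCoset.mk U U x = DoubleCoset.mk U U g := by
    intro ab _
    rw [Finset.mem_filter]
    exact ⟨Finset.mem_univ _, ((DoubleCoset.eq U U _ _).2 ⟨(ab.1 : G), ab.1.2, (ab.2 : G), ab.2.2, rfl⟩).symm⟩
  have h := Finset.card_eq_sum_card_fiberwise hmaps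
  rw [Finset.card_univ, Fintype.card_prod] at h
  rw [Nat.card_eq_fintype_card, Nat.card_eq_fintype_card, h, Finset.sum_const_nat]
  intro x hx
  rw [Finset.mem_filter] at hx
  obtain ⟨a, ha, b, hb, rfl⟩ := (DoubleCoset.eq _ _ _ _).1 hx.2.symm
  rw [← Fintype.card_subtype]
  refine Fintype.card_congr
    { toFun := fun ab => ⟨a⁻¹ * (ab.1.1 : G), mem_stab.2 ⟨mul_mem (inv_mem ha) ab.1.1.2, ?_⟩⟩
      invFun := fun s => ⟨(⟨a * s, mul_mem ha (mem_stab.1 s.2).1⟩,
        ⟨g⁻¹ * (s : G)⁻¹ * g * b, mul_mem (by simpa [mul_assoc] using inv_mem (mem_stab.1 s.2).2) hb⟩),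
        by show a * (s : G) * g * (g⁻¹ * (s : G)⁻¹ * g * b) = a * g * b; group⟩
      left_inv := fun ab => by
        refine Subtype.ext (Prod.ext (Subtype.ext ?_) (Subtype.ext ?_))
        · show a * (a⁻¹ * (ab.1.1 : G)) = _; group
        · show g⁻¹ * (a⁻¹ * (ab.1.1 : G))⁻¹ * g * b = _
          have hab : (ab.1.1 : G) * g * ab.1.2 = a * g * b := ab.2
          calc g⁻¹ * (a⁻¹ * (ab.1.1 : G))⁻¹ * g * b = g⁻¹ * (ab.1.1 : G)⁻¹ * (a * g * b) := by group
            _ = g⁻¹ * (ab.1.1 : G)⁻¹ * ((ab.1.1 : G) * g * ab.1.2) := congrArg _ hab.symm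
            _ = _ := by group
      right_inv := fun s => Subtype.ext (by show a⁻¹ * (a * (s : G)) = _; group) }
  have hab : (ab.1.1 : G) * g * ab.1.2 = a * g * b := ab.2
  rw [show g⁻¹ * (a⁻¹ * (ab.1.1 : G)) * g = b * (ab.1.2 : G)⁻¹ by
    rw [eq_mul_inv_iff_mul_eq]
    calc g⁻¹ * (a⁻¹ * (ab.1.1 : G)) * g * ab.1.2 = g⁻¹ * a⁻¹ * ((ab.1.1 : G) * g * ab.1.2) := by group
      _ = b := by rw [hab]; group]
  exact mul_mem hb (inv_mem ab.1.2.2)

/-- The orthogonality relation on the fixed space. -/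
theorem hecke_identity (hR : Cfsg.IsIrrCharacter G fun g => (R g).trace) (hn : 0 < n) {A : (Mt n)}
    (hA : avg R U * A * avg R U = A) :
    ∑ q : DoubleCoset.Quotient (U : Set G) U,
      ((Nat.card (stab U q.out) : ℂ) * (A * T R U q.out).trace) • T R U q.out⁻¹ =
      ((Nat.card G : ℂ) / n) • A := by
  set e := avg R U with he
  have hU0 := card_ne_zero (G := G) U
  have h1 : ∑ g : G, ((A * (e * R g * e)).trace) • (e * R g⁻¹ * e) = ((Nat.card G : ℂ) / n) • A := by
    have h := congrArg (fun X => e * X * e) (schur R hR hn A)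
    simp only [Finset.mul_sum, Finset.sum_mul, mul_smul_comm, smul_mul_assoc, hA] at h
    rw [← h]
    refine Finset.sum_congr rfl fun g _ => ?_
    congr 1
    conv_rhs => rw [← hA]
    rw [show A * (e * R g * e) = A * e * R g * e by simp [mul_assoc], Matrix.trace_mul_comm,
      ← mul_assoc, ← mul_assoc]
  rw [← h1, ← Finset.sum_fiberwise Finset.univ (DoubleCoset.mk U U) fun g : G =>
    ((A * (e * R g * e)).trace) • (e * R g⁻¹ * e)]
  refine Finset.sum_congr rfl fun q _ => ?_
  have hterm : ∀ g ∈ Finset.univ.filter (fun g : G => DoubleCoset.mk U U g = q),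
      ((A * (e * R g * e)).trace) • (e * R g⁻¹ * e) =
        (((Nat.card (stab U q.out) : ℂ) / Nat.card U) ^ 2 * (A * T R U q.out).trace) • T R U q.out⁻¹ := by
    intro g hg
    rw [Finset.mem_filter] at hg
    have hq : DoubleCoset.mk U U q.out = DoubleCoset.mk U U g := by
      rw [hg.2]; exact Quotient.out_eq q
    obtain ⟨a, ha, b, hb, rfl⟩ := (DoubleCoset.eq _ _ _ _).1 hq
    have hS0 : (Nat.card (stab U q.out) : ℂ) ≠ 0 := Nat.cast_ne_zero.2 Nat.card_pos.ne'
    rw [← T_mul R U ha hb q.out, ← T_mul R U (inv_mem hb) (inv_mem ha) q.out⁻¹]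
    simp only [T, stab_card_mul U ha hb, stab_card_mul U (inv_mem hb) (inv_mem ha), stab_card_inv,
      mul_smul_comm, Matrix.trace_smul, smul_smul, smul_eq_mul]
    rw [show b⁻¹ * q.out⁻¹ * a⁻¹ = (a * q.out * b)⁻¹ by group]
    congr 1
    field_simp
    rw [he]
  rw [Finset.sum_congr rfl hterm, Finset.sum_const, ← Nat.cast_smul_eq_nsmul ℂ, smul_smul]
  congr 1
  have hq : DoubleCoset.mk U U q.out = q := Quotient.out_eq q
  have hc := card_fiber U q.out
  rw [hq] at hc
  have hc' : ((Finset.univ.filter fun g : G => DoubleCoset.mk U U g = q).card : ℂ) *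
      (Nat.card (stab U q.out) : ℂ) = (Nat.card U : ℂ) * Nat.card U := by exact_mod_cast hc
  field_simp
  linear_combination -((A * T R U q.out).trace) * hc'

theorem trivial_or_dvd {p : ℕ} [Fact p.Prime] (hU : IsPGroup p U) (g : G) :
    stab U g = ⊥ ∨ p ∣ Nat.card (stab U g) := by
  obtain ⟨k, hk⟩ : ∃ k, Nat.card (stab U g) = p ^ k :=
    IsPGroup.iff_card.1 (hU.to_le (inf_le_left : stab U g ≤ U))
  rcases Nat.eq_zero_or_pos k with rfl | hk0
  · exact Or.inl (Subgroup.card_eq_one.1 (by rw [hk, pow_zero]))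
  · exact Or.inr (hk ▸ dvd_pow_self p hk0.ne')

theorem not_eq_p_mul {p k : ℕ} (hp : p.Prime) (hk : ¬ p ∣ k) {y : ℂ} (hy : IsIntegral ℤ y) :
    (k : ℂ) ≠ p * y := by
  intro h
  have hyq : y = ((k / p : ℚ) : ℂ) := by
    have hp0 : (p : ℂ) ≠ 0 := Nat.cast_ne_zero.2 hp.ne_zero
    push_cast
    rw [h]
    field_simp
  have hq : IsIntegral ℤ (k / p : ℚ) := by
    rw [hyq, show ((k / p : ℚ) : ℂ) = algebraMap ℚ ℂ (k / p) from (eq_ratCast _ _).symm] at hy
    exact (isIntegral_algebraMap_iff (algebraMap ℚ ℂ).injective).1 hy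
  obtain ⟨z, hz⟩ := IsIntegrallyClosed.isIntegral_iff.1 hq
  have hz' : (z : ℚ) * p = k := by
    have hp0 : (p : ℚ) ≠ 0 := Nat.cast_ne_zero.2 hp.ne_zero
    rw [show (z : ℚ) = k / p from hz]
    field_simp
  have : (p : ℤ) ∣ (k : ℤ) := ⟨z, by rw [mul_comm]; exact_mod_cast hz'.symm⟩
  exact hk (Int.natCast_dvd_natCast.1 this)

/-- A system `k v = A v` with entries of `A` divisible by `p` has only the zero solution. -/
theorem eq_zero_of_small {p k : ℕ} (hp : p.Prime) (hk : ¬ p ∣ k) {ι : Type*} [Fintype ι]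
    (a : ι → ι → ℂ) (ha : ∀ i j, ∃ y, IsIntegral ℤ y ∧ a i j = p * y) (v : ι → ℂ)
    (hv : ∀ i, (k : ℂ) * v i = ∑ j, a i j * v j) : v = 0 := by
  choose y hy hay using ha
  let O := integralClosure ℤ ℂ
  let M : Matrix ι ι O := (k : O) • 1 - (p : O) • Matrix.of fun i j => (⟨y i j, hy i j⟩ : O)
  let φ : O →+* ℂ := O.val.toRingHom
  have hMv : (M.map φ).mulVec v = 0 := by
    funext i
    simp only [Matrix.mulVec, dotProduct, Matrix.map_apply, M, Matrix.sub_apply, Matrix.smul_apply,
      Matrix.one_apply, Matrix.of_apply, Pi.zero_apply, smul_eq_mul, φ, AlgHom.toRingHom_eq_coe,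
      RingHom.coe_coe, map_sub, map_mul, map_natCast, apply_ite O.val, map_one, map_zero, sub_mul,
      Finset.sum_sub_distrib, mul_ite, mul_one, mul_zero, ite_mul, zero_mul, Finset.sum_ite_eq,
      Finset.mem_univ, if_true]
    rw [hv i, sub_eq_zero]
    refine Finset.sum_congr rfl fun j _ => ?_
    rw [hay]
    rfl
  refine Matrix.eq_zero_of_mulVec_eq_zero ?_ hMv
  intro hdet
  have hdetO : M.det = 0 := by
    refine (injective_iff_map_eq_zero φ).1 Subtype.val_injective _ ?_
    rw [RingHom.map_det]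
    exact hdet
  let I : Ideal O := Ideal.span {(p : O)}
  have h1 : (Ideal.Quotient.mk I) ((k : O) ^ Fintype.card ι) = 0 := by
    have h2 := congrArg (Ideal.Quotient.mk I) hdetO
    rw [RingHom.map_det, map_zero] at h2
    have hmap : (Ideal.Quotient.mk I).mapMatrix M = ((Ideal.Quotient.mk I) (k : O)) • 1 := by
      ext i j
      simp only [RingHom.mapMatrix_apply, Matrix.map_apply, M, Matrix.sub_apply, Matrix.smul_apply,
        Matrix.one_apply, Matrix.of_apply, smul_eq_mul, map_sub, map_mul]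
      rw [show (Ideal.Quotient.mk I) (p : O) = 0 from
        Ideal.Quotient.eq_zero_iff_mem.2 (Ideal.mem_span_singleton_self _), zero_mul, sub_zero]
      split_ifs <;> simp
    rw [hmap, Matrix.det_smul, Matrix.det_one, mul_one, ← map_pow] at h2
    exact h2
  rw [Ideal.Quotient.eq_zero_iff_mem, Ideal.mem_span_singleton] at h1
  obtain ⟨z, hz⟩ := h1
  refine not_eq_p_mul hp (k := k ^ Fintype.card ι) (fun h => hk (hp.dvd_of_dvd_pow h))
    (y := (z : ℂ)) z.2 ?_
  have := congrArg φ hz
  simpa [φ] using this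

theorem rank_one_entry {e : (Mt n)} (hee : e * e = e) (he0 : e ≠ 0) {c : ℕ} (hc : e.trace = (c : ℂ))
    (hcomm : ∀ A B : (Mt n), (e * A * e) * (e * B * e) = (e * B * e) * (e * A * e)) :
    c = 1 ∧ ∀ A : (Mt n), e * A * e = (e * A).trace • e := by
  have hE : ∀ (i j : Fin n) (a b : Fin n),
      (e * Matrix.single i j (1 : ℂ) * e) a b = e a i * e j b := by
    intro i j a b
    simp [Matrix.mul_apply, Matrix.single, ite_and, Finset.sum_ite_eq]
  have hrel : ∀ i j k l a b : Fin n, e a i * e j k * e l b = e a k * e l i * e j b := by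
    intro i j k l a b
    have h := congrFun (congrFun (hcomm (Matrix.single i j (1 : ℂ)) (Matrix.single k l (1 : ℂ))) a) b
    have hmid : ∀ i j k l : Fin n, (e * Matrix.single i j (1 : ℂ) * e) * (e * Matrix.single k l (1 : ℂ) * e) =
        e j k • (e * Matrix.single i l (1 : ℂ) * e) := by
      intro i j k l
      ext a b
      rw [Matrix.smul_apply, hE, Matrix.mul_apply]
      simp only [hE, smul_eq_mul]
      rw [show ∑ x, e a i * e j x * (e x k * e l b) = e a i * e l b * ∑ x, e j x * e x k by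
        rw [Finset.mul_sum]; exact Finset.sum_congr rfl fun x _ => by ring, ← Matrix.mul_apply, hee]
      ring
    rw [hmid, hmid, Matrix.smul_apply, Matrix.smul_apply, hE, hE, smul_eq_mul, smul_eq_mul] at h
    linear_combination h
  have h2 : ∀ j k l b : Fin n, (c : ℂ) * e j k * e l b = e l k * e j b := by
    intro j k l b
    have h := Finset.sum_congr (s₁ := (Finset.univ : Finset (Fin n))) rfl
      fun a _ => hrel a j k l a b
    rw [← Finset.sum_mul, ← Finset.sum_mul, show ∑ a, e a a = (c : ℂ) from hc] at h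
    rw [h, ← Finset.sum_mul]
    congr 1
    conv_rhs => rw [← hee, Matrix.mul_apply]
    exact Finset.sum_congr rfl fun a _ => mul_comm _ _
  have h3 : ∀ l b : Fin n, (c : ℂ) * c * e l b = e l b := by
    intro l b
    have h := Finset.sum_congr (s₁ := (Finset.univ : Finset (Fin n))) rfl fun j _ => h2 j j l b
    rw [← Finset.sum_mul, ← Finset.mul_sum, show ∑ a, e a a = (c : ℂ) from hc] at h
    rw [h]
    conv_rhs => rw [← hee, Matrix.mul_apply]
  obtain ⟨l, b, hlb⟩ : ∃ l b, e l b ≠ 0 := by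
    by_contra h
    push Not at h
    exact he0 (Matrix.ext h)
  have hc1 : c = 1 := by
    have h := h3 l b
    have : ((c * c : ℕ) : ℂ) = 1 := by
      push_cast
      exact mul_right_cancel₀ hlb (by rw [h, one_mul])
    exact Nat.eq_one_of_mul_eq_one_right (by exact_mod_cast this)
  refine ⟨hc1, fun A => Matrix.ext fun l b => ?_⟩
  rw [hc1, Nat.cast_one] at h2
  simp only [Matrix.mul_apply, Matrix.smul_apply, smul_eq_mul, Matrix.trace, Matrix.diag, Finset.sum_mul]
  refine Finset.sum_congr rfl fun j _ => Finset.sum_congr rfl fun k _ => ?_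
  have := h2 j k l b
  linear_combination -(A k j) * this

/-- The fixed space of `U` is a line, and the big Hecke operator acts on it by a unit. -/
theorem line {p : ℕ} [Fact p.Prime] (hR : Cfsg.IsIrrCharacter G fun g => (R g).trace) (hn : 0 < n)
    (hU : IsPGroup p U) {c : ℕ} (hc : (avg R U).trace = (c : ℂ)) (hc0 : 0 < c)
    {k : ℕ} (hk : Nat.card G = n * k) (hpk : ¬ p ∣ k) {H : Subgroup G}
    (hH : ∀ a ∈ H, ∀ b ∈ H, a * b = b * a) (hHU : H ≤ Subgroup.normalizer (U : Set G)) (n0 : G)
    (hn0 : stab U n0 = ⊥)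
    (hbig : ∀ g, stab U g = ⊥ → ∃ a ∈ U, ∃ h ∈ H, ∃ b ∈ U, g = a * (n0 * h) * b) :
    c = 1 ∧ (∀ A : (Mt n), avg R U * A * avg R U = (avg R U * A).trace • avg R U) ∧
      ∃ z y : ℂ, IsIntegral ℤ z ∧ IsIntegral ℤ y ∧ (k : ℂ) = (T R U n0).trace * z + p * y := by
  have hp := (Fact.out : p.Prime)
  have hkC : (Nat.card G : ℂ) / n = k := by
    rw [hk, Nat.cast_mul, mul_div_cancel_left₀ _ (Nat.cast_ne_zero.2 hn.ne')]
  have hk0 : (k : ℂ) ≠ 0 := Nat.cast_ne_zero.2 fun h => hpk (h ▸ dvd_zero p)
  set e := avg R U with he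
  have hee : e * e = e := avg_mul_avg R U
  have hTT : ∀ g, e * T R U g * e = T R U g := fun g => by
    simp only [T, ← he, mul_smul_comm, smul_mul_assoc]
    rw [show e * (e * R g * e) * e = (e * e) * R g * (e * e) by simp only [mul_assoc], hee]
  let S : Submodule ℂ (Mt n) := Submodule.span ℂ {X | ∃ g, stab U g = ⊥ ∧ X = T R U g}
  -- every Hecke operator is in the span of the big ones
  let v : DoubleCoset.Quotient (U : Set G) U → (Mt n) := fun q => T R U q.out⁻¹
  have hvS : ∀ q, v q ∈ S := by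
    intro q
    by_contra hq
    obtain ⟨f, hf, hfS⟩ := Submodule.exists_dual_map_eq_bot_of_notMem hq inferInstance
    have hfS' : ∀ X ∈ S, f X = 0 := fun X hX => by
      have : f X ∈ S.map f := Submodule.mem_map_of_mem hX
      rw [hfS] at this
      exact (Submodule.mem_bot ℂ).1 this
    let a : DoubleCoset.Quotient (U : Set G) U → DoubleCoset.Quotient (U : Set G) U → ℂ := fun i j =>
      if stab U j.out = ⊥ then 0 else (Nat.card (stab U j.out) : ℂ) * (v i * T R U j.out).trace
    have hsys : ∀ i, (k : ℂ) * f (v i) = ∑ j, a i j * f (v j) := by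
      intro i
      have h := congrArg f (hecke_identity R U hR hn (A := v i) (hTT _))
      rw [map_smul, map_sum, hkC, smul_eq_mul] at h
      rw [← h]
      refine Finset.sum_congr rfl fun j _ => ?_
      rw [map_smul, smul_eq_mul]
      by_cases hj : stab U j.out = ⊥
      · have : v j ∈ S := Submodule.subset_span ⟨j.out⁻¹, Subgroup.card_eq_one.1 (by
          rw [stab_card_inv, hj, Subgroup.card_bot]), rfl⟩
        rw [hfS' _ this]
        simp [v, a]
      · simp only [a, if_neg hj, v]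
    have hzero := eq_zero_of_small hp hpk a (fun i j => ?_) (fun i => f (v i)) hsys
    · exact hf (congrFun hzero q)
    · by_cases hj : stab U j.out = ⊥
      · exact ⟨0, isIntegral_zero, by simp [a, hj]⟩
      · obtain ⟨t, ht⟩ := (trivial_or_dvd U hU j.out).resolve_left hj
        refine ⟨(t : ℂ) * (v i * T R U j.out).trace,
          (map_natCast (algebraMap ℤ ℂ) t ▸ isIntegral_algebraMap).mul
            ((isHecke_T R U _).mul R U (isHecke_T R U _)).trace_isIntegral, ?_⟩
        simp only [a, if_neg hj]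
        rw [ht, Nat.cast_mul]
        ring
  have hTS : ∀ g, T R U g ∈ S := by
    intro g
    have hq : DoubleCoset.mk U U (DoubleCoset.mk U U g⁻¹).out = DoubleCoset.mk U U g⁻¹ :=
      Quotient.out_eq _
    obtain ⟨a, ha, b, hb, hab⟩ := (DoubleCoset.eq _ _ _ _).1 hq
    have := hvS (DoubleCoset.mk U U g⁻¹)
    simp only [v] at this
    have e' : g = b⁻¹ * (DoubleCoset.mk U U g⁻¹).out⁻¹ * a⁻¹ := by
      conv_lhs => rw [← inv_inv g, hab]
      group
    rw [e', T_mul R U (inv_mem hb) (inv_mem ha)]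
    exact this
  -- hence the corner is the image of a commutative algebra
  let C : Submodule ℂ (Mt n) := Submodule.span ℂ {X | ∃ h ∈ H, X = e * R h * e}
  let L : (Mt n) →ₗ[ℂ] (Mt n) := LinearMap.mulLeft ℂ (T R U n0)
  let K : (Mt n) →ₗ[ℂ] (Mt n) := (LinearMap.mulLeft ℂ e).comp (LinearMap.mulRight ℂ e)
  have hK : ∀ A, K A = e * A * e := fun A => by simp [K, mul_assoc]
  have hfix : ∀ h ∈ H, e * R h * e = R h * e := fun h hh => by
    rw [← avg_commute R U (hHU hh), mul_assoc, hee]
  have hSC : S ≤ C.map L := by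
    refine Submodule.span_le.2 ?_
    rintro _ ⟨g, hg, rfl⟩
    obtain ⟨a, ha, h, hh, b, hb, rfl⟩ := hbig g hg
    rw [T_mul R U ha hb]
    refine ⟨e * R h * e, Submodule.subset_span ⟨h, hh, rfl⟩, ?_⟩
    have hg' : stab U (n0 * h) = ⊥ := by
      apply Subgroup.card_eq_one.1
      rw [← stab_card_mul U ha hb, hg, Subgroup.card_bot]
    have hT : ∀ x, stab U x = ⊥ → T R U x = (Nat.card U : ℂ) • (e * R x * e) := fun x hx => by
      simp only [T, ← he, hx, Subgroup.card_bot, Nat.cast_one, div_one]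
    simp only [L, LinearMap.mulLeft_apply]
    rw [hT _ hn0, hT _ hg', smul_mul_assoc, map_mul]
    congr 1
    rw [hfix h hh, show e * R n0 * e * (R h * e) = e * R n0 * (e * (R h * e)) by simp only [mul_assoc],
      ← mul_assoc e (R h) e, hfix h hh]
    simp only [mul_assoc]
  have hKS : LinearMap.range K ≤ S := by
    rintro _ ⟨A, rfl⟩
    have hA : e * (K A) * e = K A := by
      rw [hK, show e * (e * A * e) * e = (e * e) * A * (e * e) by simp only [mul_assoc], hee]
    have h := hecke_identity R U hR hn hA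
    rw [hkC] at h
    rw [← inv_smul_smul₀ hk0 (K A), ← h]
    exact S.smul_mem _ (Submodule.sum_mem _ fun q _ => S.smul_mem _ (hTS _))
  have hCK : C ≤ LinearMap.range K := by
    refine Submodule.span_le.2 ?_
    rintro _ ⟨h, hh, rfl⟩
    exact ⟨R h, hK _⟩
  have heq : C = LinearMap.range K :=
    Submodule.eq_of_le_of_finrank_le hCK
      ((Submodule.finrank_mono (hKS.trans hSC)).trans (Submodule.finrank_map_le L C))
  have hCcomm : ∀ X ∈ C, ∀ Y ∈ C, X * Y = Y * X := by
    intro X hX Y hY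
    induction hX using Submodule.span_induction with
    | mem X hX =>
      obtain ⟨a, ha, rfl⟩ := hX
      induction hY using Submodule.span_induction with
      | mem Y hY =>
        obtain ⟨b, hb, rfl⟩ := hY
        have h1 : ∀ x ∈ H, ∀ y ∈ H, e * R x * e * (e * R y * e) = e * R (x * y) * e := by
          intro x hx y hy
          rw [hfix x hx, hfix y hy, hfix (x * y) (H.mul_mem hx hy), mul_assoc, ← mul_assoc e,
            hfix y hy, map_mul, mul_assoc]
        rw [h1 a ha b hb, h1 b hb a ha, hH a ha b hb]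
      | zero => simp
      | add _ _ _ _ h1 h2 => rw [mul_add, add_mul, h1, h2]
      | smul r _ _ h1 => rw [mul_smul_comm, smul_mul_assoc, h1]
    | zero => simp
    | add _ _ _ _ h1 h2 => rw [add_mul, mul_add, h1, h2]
    | smul r _ _ h1 => rw [smul_mul_assoc, mul_smul_comm, h1]
  have he0 : e ≠ 0 := fun h => by
    rw [h, Matrix.trace_zero] at hc
    exact hc0.ne' (by exact_mod_cast hc.symm)
  obtain ⟨hc1, hscal⟩ := rank_one_entry hee he0 hc fun A B =>
    hCcomm _ (heq ▸ ⟨A, hK A⟩) _ (heq ▸ ⟨B, hK B⟩)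
  refine ⟨hc1, hscal, ?_⟩
  -- the trace identity
  have hTtr : ∀ g, T R U g = (T R U g).trace • e := by
    intro g
    have h := hscal (T R U g)
    rw [hTT] at h
    rw [h, Matrix.trace_smul, hc, hc1, Nat.cast_one, smul_eq_mul, mul_one]
  have hid := congrArg Matrix.trace (hecke_identity R U hR hn (A := e) (by rw [hee, hee]))
  rw [hkC, Matrix.trace_sum, Matrix.trace_smul, hc, hc1, Nat.cast_one, smul_eq_mul, mul_one] at hid
  have hdiv : ∀ q : DoubleCoset.Quotient (U : Set G) U, ∃ z y : ℂ, IsIntegral ℤ z ∧ IsIntegral ℤ y ∧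
      (((Nat.card (stab U q.out) : ℂ) * (e * T R U q.out).trace) • T R U q.out⁻¹).trace =
        (T R U n0).trace * z + p * y := by
    intro q
    have hint : ∀ g, IsIntegral ℤ (T R U g).trace := fun g => (isHecke_T R U g).trace_isIntegral
    have hleft : e * T R U q.out = T R U q.out := by
      simp only [T, ← he, mul_smul_comm]
      rw [show e * (e * R q.out * e) = e * e * R q.out * e by simp only [mul_assoc], hee]
    rw [Matrix.trace_smul, smul_eq_mul, hleft]
    rcases trivial_or_dvd U hU q.out with hq | ⟨t, ht⟩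
    · obtain ⟨a, ha, h, hh, b, hb, hqe⟩ := hbig _ hq
      have hroot : IsIntegral ℤ (e * R h * e).trace := by
        refine IsHecke.trace_isIntegral R U ⟨MonoidAlgebra.of ℤ G h, ?_, ?_⟩
        · rw [MonoidAlgebra.lift_of, hfix h hh]
        · rw [← he, ← mul_assoc, ← mul_assoc, hee]
      refine ⟨(e * R h * e).trace * (T R U q.out⁻¹).trace, 0, hroot.mul (hint _), isIntegral_zero, ?_⟩
      rw [hq, Subgroup.card_bot, Nat.cast_one, one_mul, hqe, T_mul R U ha hb]
      have hprod : T R U (n0 * h) = T R U n0 * (e * R h * e) := by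
        have hg' : stab U (n0 * h) = ⊥ := by
          apply Subgroup.card_eq_one.1
          rw [← stab_card_mul U ha hb, ← hqe, hq, Subgroup.card_bot]
        simp only [T, ← he, hn0, hg', Subgroup.card_bot, Nat.cast_one, div_one, smul_mul_assoc]
        rw [hfix h hh, show e * R n0 * e * (R h * e) = e * R n0 * (e * (R h * e)) by simp only [mul_assoc],
          ← mul_assoc e (R h) e, hfix h hh, map_mul]
        simp only [mul_assoc]
      rw [hprod]
      nth_rewrite 1 [hTtr n0]
      rw [smul_mul_assoc, show e * (e * R h * e) = e * R h * e by rw [← mul_assoc, ← mul_assoc, hee],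
        Matrix.trace_smul, smul_eq_mul, ← hqe]
      ring
    · refine ⟨0, (t : ℂ) * (T R U q.out).trace * (T R U q.out⁻¹).trace, isIntegral_zero,
        ((map_natCast (algebraMap ℤ ℂ) t ▸ isIntegral_algebraMap).mul (hint _)).mul (hint _), ?_⟩
      rw [ht, Nat.cast_mul]
      ring
  choose z y hz hy hzq using hdiv
  rw [Finset.sum_congr rfl fun q _ => hzq q, Finset.sum_add_distrib, ← Finset.mul_sum,
    ← Finset.mul_sum] at hid
  exact ⟨_, _, IsIntegral.sum _ fun q _ => hz q, IsIntegral.sum _ fun q _ => hy q, hid.symm⟩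

end CfsgLib.SteinbergChar.DefectZero
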