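import Cfsg.Agent.Lib.SteinbergChar.Norm

/-!
The Steinberg character at an element of a parabolic subgroup `P_J` none of whose conjugates lies in a
smaller one: up to sign it counts the fixed points on `P_J / L_J`.

The cosets of `P_K` are split along the doubly minimal representatives `w`; the orbit of `w` contributes
only if `w⁻¹` carries `J` to fundamental roots in `K`, and then independently of `K`, so the alternating
sum over `K` leaves the one element `w = w_J w_0`.
-/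

set_option autoImplicit false

namespace CfsgLib.SteinbergChar

open Cfsg.Lie CfsgLib.ChevStr CfsgLib.ChevStr.ChevCore CfsgLib.KnownSimple
open scoped Classical MatrixGroups

section Roots

variable {D : ChevalleyDatum} {R : RootData D} (hR : ReflData R)

/-- The negative of a root as an element of `Fin`. -/
def negR (R : RootData D) (s : Fin D.nroots) : Fin D.nroots := ⟨D.neg s, R.neg_lt s s.isLt⟩

theorem α_negR (s : Fin D.nroots) : R.α (negR R s) = -R.α s := R.α_neg s s.isLt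

theorem negR_negR (s : Fin D.nroots) : negR R (negR R s) = s := Fin.ext (R.neg_neg s s.isLt)

theorem α_sroot (i : Fin D.rank) : R.α (sroot R i) = Pi.single i 1 := R.α_simple i

theorem sroot_injective : Function.Injective (sroot R) := by
  intro i k h
  have h1 := congrArg (fun r : Fin D.nroots => R.α r k) h
  simp only [α_sroot, Pi.single_eq_same] at h1
  by_contra hne
  rw [Pi.single_eq_of_ne (Ne.symm hne)] at h1
  exact zero_ne_one h1

include hR in
theorem apply_negR {w : Equiv.Perm (Fin D.nroots)} (hw : w ∈ hR.weyl) (s : Fin D.nroots) :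
    w (negR R s) = negR R (w s) := Fin.ext (hR.apply_neg hw s)

theorem negR_pos {s : Fin D.nroots} (h : D.IsNegRoot s) : D.IsPosRoot (negR R s) :=
  (R.isPos_neg_iff s.isLt).2 h

theorem negR_neg {s : Fin D.nroots} (h : D.IsPosRoot s) : D.IsNegRoot (negR R s) :=
  (R.isNeg_neg_iff s.isLt).2 h

/-- A positive root carried by a positive linear map to a fundamental root is fundamental. -/
theorem simple_of_sum {r : Fin D.nroots} (hr : D.IsPosRoot r) (v : Fin D.rank → Fin D.rank → ℤ)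
    (hv : ∀ k, R.α r k ≠ 0 → 0 ≤ v k ∧ v k ≠ 0) {j : Fin D.rank}
    (h : ∑ k, R.α r k • v k = Pi.single j 1) : ∃ k, r = sroot R k := by
  have h0 : ∀ k, 0 ≤ R.α r k := ((R.isPos_iff r).1 hr).2
  have h1 := congrArg (fun x : Fin D.rank → ℤ => ∑ m, x m) h
  simp only [Finset.sum_apply, Pi.smul_apply, smul_eq_mul, Finset.sum_pi_single', Finset.mem_univ,
    if_true] at h1
  rw [Finset.sum_comm] at h1
  simp only [← Finset.mul_sum] at h1
  have h2 : ∑ k, R.α r k ≤ 1 := by
    rw [← h1]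
    refine Finset.sum_le_sum fun k _ => ?_
    by_cases hk : R.α r k = 0
    · simp [hk]
    · refine le_mul_of_one_le_right (h0 k) ?_
      obtain ⟨hk0, hk1⟩ := hv k hk
      obtain ⟨m, hm⟩ := Function.ne_iff.1 hk1
      have := Finset.single_le_sum (f := v k) (fun i _ => hk0 i) (Finset.mem_univ m)
      have hm0 : (0 : Fin D.rank → ℤ) m ≤ v k m := hk0 m
      simp only [Pi.zero_apply] at hm hm0
      omega
  obtain ⟨k, hk⟩ := Function.ne_iff.1 (R.α_ne_zero r.isLt)
  refine ⟨k, Fin.ext (R.α_inj r.isLt (R.simple_lt k) ?_)⟩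
  rw [α_sroot]
  have hk1 : 1 ≤ R.α r k := by
    have := h0 k
    simp only [Pi.zero_apply] at hk
    omega
  funext m
  by_cases hm : m = k
  · subst hm
    have := Finset.single_le_sum (f := R.α r) (fun i _ => h0 i) (Finset.mem_univ m)
    rw [Pi.single_eq_same]
    omega
  · rw [Pi.single_eq_of_ne hm]
    have h3 := Finset.sum_le_sum_of_subset_of_nonneg (f := R.α r) (Finset.subset_univ {k, m})
      (fun i _ _ => h0 i)
    rw [Finset.sum_pair (Ne.symm hm)] at h3
    have := h0 m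
    omega

include hR in
/-- A positive root supported on `K` that an element positive on `K` carries to a fundamental root. -/
theorem preimage_simple {w : Equiv.Perm (Fin D.nroots)} (hw : w ∈ hR.weyl) {K : Finset ℕ}
    (hpos : PosOn R w K) {r : Fin D.nroots} (hr : D.IsPosRoot r)
    (hsupp : ∀ m : Fin D.rank, m.val ∉ K → R.α r m = 0) {j : Fin D.rank} (h : w r = sroot R j) :
    ∃ k : Fin D.rank, k.val ∈ K ∧ r = sroot R k := by
  obtain ⟨k, rfl⟩ := simple_of_sum hr (fun k => R.α (w (sroot R k)))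
    (fun k hk => ⟨((R.isPos_iff _).1 (hpos k (by_contra fun hn => hk (hsupp k hn)))).2,
      R.α_ne_zero (w _).isLt⟩) (j := j) (by
      show ∑ k, R.α r k • R.α (w ⟨D.simple k.val, R.simple_lt k⟩) = _
      rw [← hR.α_weyl w hw r, h, α_sroot])
  refine ⟨k, by_contra fun hn => ?_, rfl⟩
  have := hsupp k hn
  rw [α_sroot, Pi.single_eq_same] at this
  exact one_ne_zero this

include hR in
theorem sroot_supp {A : Finset ℕ} {w : Equiv.Perm (Fin D.nroots)} (hw : w ∈ WS hR A) {i : Fin D.rank}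
    (hi : i.val ∈ A) (m : Fin D.rank) (hm : m.val ∉ A) : R.α (w (sroot R i)) m = 0 := by
  rw [hR.weylSub_fix hw (sroot R i) m fun h => hm (mem_fs.1 h), α_sroot, Pi.single_eq_of_ne]
  exact fun e => hm (e ▸ hi)

include hR in
/-- The longest element of a parabolic subgroup carries fundamental roots to negatives of such. -/
theorem negOn_simple {A : Finset ℕ} {w : Equiv.Perm (Fin D.nroots)} (hw : w ∈ WS hR A)
    (h : NegOn R w A) {k : Fin D.rank} (hk : k.val ∈ A) :
    ∃ k' : Fin D.rank, k'.val ∈ A ∧ w (sroot R k) = negR R (sroot R k') := by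
  have hwW := WS_le hR A hw
  set t := negR R (w (sroot R k)) with ht
  have hsupp : ∀ m : Fin D.rank, m.val ∉ A → R.α t m = 0 := fun m hm => by
    rw [ht, α_negR, Pi.neg_apply, sroot_supp hR hw hk m hm, neg_zero]
  have hww : w (w (sroot R k)) = sroot R k := by
    conv_lhs => arg 1; rw [← negOn_inv hR hw h]
    simp
  obtain ⟨k', hk'⟩ := simple_of_sum (negR_pos (h k hk)) (fun m => -R.α (w (sroot R m)))
    (fun m hm => ⟨neg_nonneg.2 ((R.isNeg_iff _).1 (h m (by_contra fun hn => hm (hsupp m hn)))).2,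
      neg_ne_zero.2 (R.α_ne_zero (w _).isLt)⟩) (j := k) (by
      show ∑ m, R.α t m • -R.α (w ⟨D.simple m.val, R.simple_lt m⟩) = _
      simp only [smul_neg, Finset.sum_neg_distrib]
      rw [← hR.α_weyl w hwW t, ht, apply_negR hR hwW, α_negR, hww, neg_neg, α_sroot])
  refine ⟨k', by_contra fun hn => ?_, by rw [← hk', negR_negR]⟩
  have := hsupp k' hn
  rw [ht, hk', α_sroot, Pi.single_eq_same] at this
  exact one_ne_zero this

/-- The indices in `J` that `w⁻¹` carries to fundamental roots in `K`. -/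
noncomputable def meet (R : RootData D) (w : Equiv.Perm (Fin D.nroots)) (J K : Finset ℕ) : Finset ℕ :=
  J.filter fun j => ∃ h : j < D.rank, ∃ k : Fin D.rank, k.val ∈ K ∧ w⁻¹ (sroot R ⟨j, h⟩) = sroot R k

include hR in
theorem mem_meet_of_eq {J K : Finset ℕ} {w : Equiv.Perm (Fin D.nroots)} (hw : w ∈ hR.weyl)
    (hK : PosOn R w K) (hJ : PosOn R w⁻¹ J) :
    ∀ a ∈ WS hR J, ∀ c ∈ WS hR K, a * w = w * c → a ∈ WS hR (meet R w J K) := by
  suffices ∀ n, ∀ a ∈ WS hR J, (hR.invSet a).card = n → ∀ c ∈ WS hR K, a * w = w * c →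
      a ∈ WS hR (meet R w J K) from fun a ha => this _ a ha rfl
  intro n
  induction n using Nat.strong_induction_on with
  | _ n ih =>
  intro a ha hn c hc hac
  have haW := WS_le hR J ha
  by_cases h0 : hR.invSet a = ∅
  · rw [hR.eq_one_of_invSet_eq_empty haW h0]; exact one_mem _
  obtain ⟨j, hjJ, hj⟩ := hR.weylSub_exists_neg ha h0
  rw [mem_fs] at hjJ
  change D.IsNegRoot (a (sroot R j)) at hj
  set r := w⁻¹ (sroot R j) with hr
  have hwr : w r = sroot R j := by simp [hr]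
  have hcr : c r = w⁻¹ (a (sroot R j)) := by
    rw [← hwr, ← Equiv.Perm.mul_apply a, hac]
    simp
  have hneg : D.IsNegRoot (w⁻¹ (a (sroot R j))) := by
    have hp := apply_pos hR (inv_mem hw) hJ (negR_pos hj) fun m hm => by
      rw [α_negR, Pi.neg_apply, sroot_supp hR ha hjJ m hm, neg_zero]
    rw [apply_negR hR (inv_mem hw)] at hp
    exact (R.isPos_neg_iff (w⁻¹ _).isLt).1 hp
  have hrpos : D.IsPosRoot r := hJ j hjJ
  obtain ⟨k, hk, hrk⟩ := preimage_simple hR hw hK hrpos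
    (invSet_supp' hR hc (hR.mem_invSet.2 ⟨hrpos, by rw [hcr]; exact hneg⟩)) hwr
  have hjm : j.val ∈ meet R w J K := Finset.mem_filter.2 ⟨hjJ, j.isLt, k, hk, hrk⟩
  have hswap : w * hR.sPerm k = hR.sPerm j * w := by
    refine hR.mul_sPerm_eq hw ?_
    show (w (sroot R k) : ℕ) = D.simple j.val
    rw [← hrk, hwr]
    rfl
  have hcard := hR.invSet_mul_sPerm_of_neg haW j hj
  have h1 := ih _ (by omega) (a * hR.sPerm j) (mul_mem ha (hR.sPerm_mem_sub (mem_fs.2 hjJ))) rfl
    (c * hR.sPerm k) (mul_mem hc (hR.sPerm_mem_sub (mem_fs.2 hk)))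
    (by rw [mul_assoc, ← hswap, ← mul_assoc, hac, mul_assoc])
  have h2 := mul_mem h1 (hR.sPerm_mem_sub (i := j) (J := fs D (meet R w J K)) (mem_fs.2 hjm))
  rwa [mul_assoc, hR.sPerm_mul_self j, mul_one] at h2

/-- `w⁻¹` carries every fundamental root in `J` to a fundamental root. -/
def Good (R : RootData D) (w : Equiv.Perm (Fin D.nroots)) (J : Finset ℕ) : Prop :=
  ∀ j : Fin D.rank, j.val ∈ J → ∃ k : Fin D.rank, w⁻¹ (sroot R j) = sroot R k

/-- The indices of the fundamental roots carried into `J`. -/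
noncomputable def pre (R : RootData D) (w : Equiv.Perm (Fin D.nroots)) (J : Finset ℕ) : Finset ℕ :=
  (Finset.range D.rank).filter fun k => ∃ h : k < D.rank, ∃ j : Fin D.rank, j.val ∈ J ∧
    w (sroot R ⟨k, h⟩) = sroot R j

theorem mem_pre {w : Equiv.Perm (Fin D.nroots)} {J : Finset ℕ} {k : Fin D.rank} :
    k.val ∈ pre R w J ↔ ∃ j : Fin D.rank, j.val ∈ J ∧ w (sroot R k) = sroot R j := by
  simp only [pre, Finset.mem_filter, Finset.mem_range]
  exact ⟨fun ⟨_, _, h⟩ => h, fun h => ⟨k.isLt, k.isLt, h⟩⟩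

theorem pre_subset_asc (w : Equiv.Perm (Fin D.nroots)) (J : Finset ℕ) :
    pre R w J ⊆ asc R w (Finset.range D.rank) := by
  intro k hk
  refine Finset.mem_filter.2 ⟨(Finset.mem_filter.1 hk).1, fun h => ?_⟩
  obtain ⟨j, -, hj⟩ := (mem_pre (k := ⟨k, h⟩)).1 hk
  rw [hj]
  exact R.simple_pos j

theorem Good.posOn {w : Equiv.Perm (Fin D.nroots)} {J : Finset ℕ} (h : Good R w J) :
    PosOn R w⁻¹ J := fun j hj => by
  obtain ⟨k, hk⟩ := h j hj
  rw [hk]
  exact R.simple_pos k

theorem Good.mem_pre' {w : Equiv.Perm (Fin D.nroots)} {J : Finset ℕ} {j k : Fin D.rank}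
    (hj : j.val ∈ J) (h : w⁻¹ (sroot R j) = sroot R k) : k.val ∈ pre R w J :=
  mem_pre.2 ⟨j, hj, by rw [← h]; simp⟩

/-- If nothing of `J` is missed, `w` is good and every index carried into `J` lies in `K`. -/
theorem good_of_meet_eq {w : Equiv.Perm (Fin D.nroots)} {J K : Finset ℕ} (h : meet R w J K = J) :
    Good R w J ∧ pre R w J ⊆ K := by
  have hall : ∀ j : Fin D.rank, j.val ∈ J → ∃ k : Fin D.rank, k.val ∈ K ∧
      w⁻¹ (sroot R j) = sroot R k := fun j hj => by
    rw [← h] at hj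
    obtain ⟨_, hk⟩ := (Finset.mem_filter.1 hj).2
    exact hk
  refine ⟨fun j hj => (hall j hj).imp fun k hk => hk.2, fun k hk => ?_⟩
  have hlt := Finset.mem_range.1 (Finset.mem_filter.1 hk).1
  obtain ⟨j, hj, hjk⟩ := (mem_pre (k := ⟨k, hlt⟩)).1 hk
  obtain ⟨k', hk', hkk'⟩ := hall j hj
  rw [← hjk] at hkk'
  simp only [Equiv.Perm.inv_def, Equiv.symm_apply_apply] at hkk'
  rw [← sroot_injective hkk'] at hk'
  exact hk'

/-- The alternating sum over an interval of subsets. -/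
theorem sum_interval {A K0 S : Finset ℕ} (h1 : K0 ⊆ S) (h2 : S ⊆ A) :
    (∑ K ∈ A.powerset, if K0 ⊆ K ∧ K ⊆ S then (-1 : ℤ) ^ K.card else 0) =
      if S = K0 then (-1 : ℤ) ^ K0.card else 0 := by
  rw [← Finset.sum_filter,
    show A.powerset.filter (fun K => K0 ⊆ K ∧ K ⊆ S) = (S \ K0).powerset.image (K0 ∪ ·) by
      ext K
      simp only [Finset.mem_filter, Finset.mem_powerset, Finset.mem_image]
      refine ⟨fun ⟨_, h3, h4⟩ => ⟨K \ K0, Finset.sdiff_subset_sdiff h4 subset_rfl,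
        Finset.union_sdiff_of_subset h3⟩, ?_⟩
      rintro ⟨T, hT, rfl⟩
      have h5 : K0 ∪ T ⊆ S := Finset.union_subset h1 (hT.trans Finset.sdiff_subset)
      exact ⟨h5.trans h2, Finset.subset_union_left, h5⟩]
  rw [Finset.sum_image]
  · have hd : ∀ T ∈ (S \ K0).powerset, (-1 : ℤ) ^ (K0 ∪ T).card = (-1) ^ K0.card * (-1) ^ T.card :=
      fun T hT => by
        rw [Finset.card_union_of_disjoint, pow_add]
        exact Finset.disjoint_left.2 fun x hx hxT => (Finset.mem_sdiff.1 (Finset.mem_powerset.1 hT hxT)).2 hx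
    rw [Finset.sum_congr rfl hd, ← Finset.mul_sum, Finset.sum_powerset_neg_one_pow_card]
    by_cases h : S = K0
    · simp [h]
    · rw [if_neg h, if_neg, mul_zero]
      rw [Finset.sdiff_eq_empty_iff_subset]
      exact fun h' => h (h'.antisymm h1)
  · intro T hT T' hT' e
    simp only [Finset.coe_powerset, Set.mem_preimage, Set.mem_powerset_iff, Finset.coe_subset] at hT hT'
    ext x
    constructor <;> intro hx
    · have hxT : x ∈ K0 ∪ T' := by
        change K0 ∪ T = K0 ∪ T' at e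
        rw [← e]
        exact Finset.mem_union_right K0 hx
      rcases Finset.mem_union.1 hxT with h | h
      · exact absurd h (Finset.mem_sdiff.1 (hT hx)).2
      · exact h
    · have hxT : x ∈ K0 ∪ T := by
        change K0 ∪ T = K0 ∪ T' at e
        rw [e]
        exact Finset.mem_union_right K0 hx
      rcases Finset.mem_union.1 hxT with h | h
      · exact absurd h (Finset.mem_sdiff.1 (hT' hx)).2
      · exact h

end Roots

variable {D : ChevalleyDatum} {F : Type*} [Field F] (C : ChevCore D F) {J : Finset ℕ}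

/-- The fixed points of `s` on the cosets of a subgroup of `P_J`. -/
noncomputable def fx (H : Subgroup (P D F J)) (s : P D F J) : ℕ :=
  Nat.card {x : ↥(P D F J) ⧸ H // s • x = x}

/-- The stabilizer in `P_J` of the coset `n_w P_K`. -/
noncomputable def Stb (J K : Finset ℕ) (w : Equiv.Perm (Fin D.nroots)) : Subgroup (P D F J) :=
  ((P D F K).comap (MulAut.conj (nw C w)⁻¹).toMonoidHom).subgroupOf (P D F J)

theorem mem_Stb {K : Finset ℕ} {w : Equiv.Perm (Fin D.nroots)} {a : P D F J} :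
    a ∈ Stb C J K w ↔ (nw C w)⁻¹ * (a : GL D.Idx F) * nw C w ∈ P D F K := by
  simp [Stb, Subgroup.mem_subgroupOf]

/-- An element of a cell of an element of a parabolic Weyl group lies in the parabolic subgroup. -/
theorem cell_mem_P {J : Finset ℕ} {g m : GL D.Idx F} {a : Equiv.Perm (Fin D.nroots)}
    (ha : a ∈ WS C.hR J) (hm : m ∈ D.monomialSubgroup F) (hma : C.Moves m a)
    (hg : g ∈ C.bigCell m) : g ∈ P D F J := by
  obtain ⟨x, hx, y, hy, rfl⟩ := C.mem_bigCell.1 hg
  have haW := WS_le C.hR J ha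
  have h1 : m * (nw C a)⁻¹ ∈ D.borelSubgroup F := by
    refine mem_borel_of_moves_one C (mul_mem hm (inv_mem (nw_mem C haW))) ?_
    simpa using Moves.mul C hma (Moves.inv C (nw_mem C haW) (nw_moves C haW))
  have h2 := mul_mem (borel_le_P (F := F) J h1) (nw_mem_P C ha)
  rw [inv_mul_cancel_right] at h2
  exact mul_mem (mul_mem (borel_le_P J hx) h2) (borel_le_P J hy)

/-- The stabilizer of a coset lies in the parabolic subgroup of the indices it keeps. -/
theorem stb_le {K : Finset ℕ} {w : Equiv.Perm (Fin D.nroots)} (hw : w ∈ C.hR.weyl)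
    (hK : PosOn C.R w K) (hJ : PosOn C.R w⁻¹ J) {a : P D F J} (ha : a ∈ Stb C J K w) :
    (a : GL D.Idx F) ∈ P D F (meet C.R w J K) := by
  rw [mem_Stb] at ha
  set n := nw C w with hn
  have hnN : n ∈ D.monomialSubgroup F := nw_mem C hw
  obtain ⟨b, hb, m, hm, hmb, hcell, hmul⟩ := parabolic_mul C hnN (nw_moves C hw) hJ a.2
  obtain ⟨c, hc, m', hm', hmc, -, hmul'⟩ := parabolic_mul C (inv_mem hnN)
    (Moves.inv C hnN (nw_moves C hw)) (J := K) (by rwa [inv_inv]) (inv_mem ha)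
  have h1 := C.inv_mem_bigCell hmul'
  rw [show ((n⁻¹ * (a : GL D.Idx F) * n)⁻¹ * n⁻¹)⁻¹ = (a : GL D.Idx F) * n by group,
    show (m' * n⁻¹)⁻¹ = n * m'⁻¹ by group] at h1
  have h2 := C.moves_eq_of_mem (mul_mem hm hnN) (mul_mem hnN (inv_mem hm'))
    (Moves.mul C hmb (nw_moves C hw)) (Moves.mul C (nw_moves C hw) (Moves.inv C hm' hmc))
    (C.bigCell_trans (C.bigCell_symm hmul) h1)
  exact cell_mem_P C (mem_meet_of_eq C.hR hw hK hJ b hb c⁻¹ (inv_mem hc) h2) hm hmb hcell

include C in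
theorem P_decomp {a : GL D.Idx F} (ha : a ∈ P D F J) : ∃ u ∈ D.unipotentRadical F (J : Set ℕ),
    ∃ l ∈ D.leviSubgroup F (J : Set ℕ), a = u * l := by
  have hL : D.leviSubgroup F (J : Set ℕ) ≤
      Subgroup.normalizer (D.unipotentRadical F (J : Set ℕ) : Set (GL D.Idx F)) :=
    (le_sup_right.trans C.radical_sup_levi.le).trans C.parabolic_le_normalizer
  have h : a ∈ D.unipotentRadical F (J : Set ℕ) ⊔ D.leviSubgroup F (J : Set ℕ) := by
    rw [C.radical_sup_levi]; exact ha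
  rw [← SetLike.mem_coe, Subgroup.coe_mul_of_right_le_normalizer_left _ _ hL] at h
  obtain ⟨u, hu, l, hl, rfl⟩ := h
  exact ⟨u, hu, l, hl, rfl⟩

/-- A good element carries the Levi subgroup into the parabolic subgroup of `pre`. -/
theorem levi_conj {w : Equiv.Perm (Fin D.nroots)} (hw : w ∈ C.hR.weyl) (hg : Good C.R w J)
    {l : GL D.Idx F} (hl : l ∈ D.leviSubgroup F (J : Set ℕ)) :
    (nw C w)⁻¹ * l * nw C w ∈ P D F (pre C.R w J) := by
  set n := nw C w
  suffices h : D.leviSubgroup F (J : Set ℕ) ≤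
      (P D F (pre C.R w J)).comap (MulAut.conj n⁻¹).toMonoidHom by
    simpa using h hl
  refine sup_le (fun d hd => ?_) ((Subgroup.closure_le _).2 ?_)
  · show n⁻¹ * d * n⁻¹⁻¹ ∈ P D F (pre C.R w J)
    exact borel_le_P _ (diagonal_le_borel (C.conj_diagonal_mem (inv_mem (nw_mem C hw)) hd))
  · rintro x ⟨r, t, hr, hx⟩
    rw [show x = C.xGL r t from Units.ext (by rw [hx, C.coe_xGL])]
    show n⁻¹ * C.xGL r t * n⁻¹⁻¹ ∈ P D F (pre C.R w J)
    obtain ⟨u, hu⟩ := (Moves.inv C (nw_mem C hw) (nw_moves C hw)).2 ⟨r, hr.1⟩ t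
    rw [hu]
    refine C.xGL_mem_parabolic (C.hR.inRootSub_iff.2 ⟨(w⁻¹ _).isLt, fun m hm => ?_⟩) u
    rw [C.hR.α_weyl w⁻¹ (inv_mem hw), Finset.sum_apply]
    refine Finset.sum_eq_zero fun j _ => ?_
    by_cases hj : j ∈ finSet D (J : Set ℕ)
    · obtain ⟨k, hk⟩ := hg j (mem_fs.1 hj)
      have hkK := Good.mem_pre' (mem_fs.1 hj) hk
      rw [Pi.smul_apply, show (⟨D.simple j.val, C.R.simple_lt j⟩ : Fin D.nroots) = sroot C.R j from rfl,
        hk, α_sroot, Pi.single_eq_of_ne, smul_zero]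
      exact fun e => hm (mem_fs.2 (e ▸ hkK))
    · rw [(C.hR.inRootSub_iff.1 hr).2 j hj, zero_smul, Pi.zero_apply]

/-- For a good element the stabilizer of a coset does not depend on `K`. -/
theorem stb_radical {K : Finset ℕ} {w : Equiv.Perm (Fin D.nroots)} (hw : w ∈ C.hR.weyl)
    (hg : Good C.R w J) (hK : PosOn C.R w K) (hsub : pre C.R w J ⊆ K) {a : P D F J}
    (ha : a ∈ Stb C J K w) :
    ∃ u ∈ D.unipotentRadical F (J : Set ℕ), ∃ l ∈ D.leviSubgroup F (J : Set ℕ),
      (a : GL D.Idx F) = u * l ∧ (nw C w)⁻¹ * u * nw C w ∈ D.borelSubgroup F := by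
  rw [mem_Stb] at ha
  obtain ⟨u, hu, l, hl, hul⟩ := P_decomp C a.2
  refine ⟨u, hu, l, hl, hul, ?_⟩
  have h1 := mul_mem ha (inv_mem (P_mono hsub (levi_conj C hw hg hl)))
  rw [hul, show (nw C w)⁻¹ * (u * l) * nw C w * ((nw C w)⁻¹ * l * nw C w)⁻¹ =
    (nw C w)⁻¹ * u * ((nw C w)⁻¹)⁻¹ by group] at h1
  have h2 := mem_borel_of_conj_mem C (inv_mem (nw_mem C hw)) (Moves.inv C (nw_mem C hw) (nw_moves C hw))
    (by rwa [inv_inv]) (C.radical_le_borel hu) h1
  rwa [inv_inv] at h2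

theorem stb_eq {K : Finset ℕ} {w : Equiv.Perm (Fin D.nroots)} (hw : w ∈ C.hR.weyl)
    (hg : Good C.R w J) (hK : PosOn C.R w K) (hsub : pre C.R w J ⊆ K) :
    Stb C J K w = Stb C J (pre C.R w J) w := by
  refine le_antisymm (fun a ha => ?_) fun a ha => ?_
  · obtain ⟨u, -, l, hl, hul, hB⟩ := stb_radical C hw hg hK hsub ha
    rw [mem_Stb, hul, show (nw C w)⁻¹ * (u * l) * nw C w =
      ((nw C w)⁻¹ * u * nw C w) * ((nw C w)⁻¹ * l * nw C w) by group]
    exact mul_mem (borel_le_P _ hB) (levi_conj C hw hg hl)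
  · rw [mem_Stb] at ha ⊢
    exact P_mono hsub ha

/-- Doubly minimal elements in the same double coset are equal. -/
theorem dm_eq_of_mul {K : Finset ℕ} {w w' : Equiv.Perm (Fin D.nroots)} (hw : w ∈ DM C J K)
    (hw' : w' ∈ DM C J K) {p q : GL D.Idx F} (hp : p ∈ P D F J) (hq : q ∈ P D F K)
    (e : nw C w' = p * nw C w * q) : w' = w := by
  obtain ⟨-, hwW, h1, h2⟩ := Finset.mem_filter.1 hw
  obtain ⟨-, hwW', h1', h2'⟩ := Finset.mem_filter.1 hw'
  obtain ⟨b, hb, m, hm, hmx, hcell⟩ :=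
    right_cells C hq (nw_mem C hwW) (nw_moves C hwW) (C.self_mem_bigCell _)
  obtain ⟨c, hc, m', hm', hmx', hcell'⟩ := left_cells C hp m _ _ hm hmx hcell
  rw [← mul_assoc p, ← e] at hcell'
  have h3 := C.moves_eq_of_mem (nw_mem C hwW') hm' (nw_moves C hwW') hmx' hcell'
  rw [← mul_assoc] at h3
  subst h3
  exact dm_unique C.hR hwW hc hb h1 h2 h1' h2'

/-- The doubly minimal elements represent all double cosets. -/
theorem dm_cover (K : Finset ℕ) {g : GL D.Idx F} (hg : g ∈ D.group F) :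
    ∃ w ∈ DM C J K, ∃ p ∈ P D F J, ∃ q ∈ P D F K, g = p * nw C w * q := by
  obtain ⟨w, hw, b, hb, n, hn, hnw, u, hu, rfl⟩ := C.normalForm_exists hg
  obtain ⟨a, ha, a', ha', h1, h2⟩ := dm_exists C.hR J K hw
  set y := a * w * a' with hy
  have hyW : y ∈ C.hR.weyl := mul_mem (mul_mem (WS_le C.hR J ha) hw) (WS_le C.hR K ha')
  refine ⟨y, Finset.mem_filter.2 ⟨Finset.mem_univ _, hyW, h1, h2⟩, ?_⟩
  have haW := WS_le C.hR J (inv_mem ha)
  have haW' := WS_le C.hR K (inv_mem ha')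
  set t := nw C a⁻¹ * nw C y * nw C a'⁻¹ with ht
  have htN : t ∈ D.monomialSubgroup F :=
    mul_mem (mul_mem (nw_mem C haW) (nw_mem C hyW)) (nw_mem C haW')
  have htw : C.Moves t w := by
    have := Moves.mul C (Moves.mul C (nw_moves C haW) (nw_moves C hyW)) (nw_moves C haW')
    rwa [hy, show a⁻¹ * (a * w * a') * a'⁻¹ = w by group] at this
  have hd : n * t⁻¹ ∈ D.borelSubgroup F :=
    mem_borel_of_moves_one C (mul_mem hn (inv_mem htN))
      (by simpa using Moves.mul C hnw (Moves.inv C htN htw))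
  refine ⟨b * (n * t⁻¹) * nw C a⁻¹, mul_mem (borel_le_P J (mul_mem hb hd)) (nw_mem_P C (inv_mem ha)),
    nw C a'⁻¹ * u, mul_mem (nw_mem_P C (inv_mem ha')) (borel_le_P K (C.Ucl_invRoots_le _ hu)), ?_⟩
  rw [ht]
  group

/-- The fixed cosets of `P_K`, split along the doubly minimal representatives. -/
theorem fixed_eq_sum [Finite F] (K : Finset ℕ) (s : D.group F) (hs : (s : GL D.Idx F) ∈ P D F J) :
    Cfsg.fixedPointCharacter (D.parabolicIn F K) s =
      ∑ w ∈ DM C J K, (fx (Stb C J K w) ⟨s, hs⟩ : ℂ) := by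
  let up : DM C J K → P D F J → D.group F := fun w a =>
    ⟨(a : GL D.Idx F) * nw C w.1, mul_mem (P_le_group C J a.2)
      (nw_mem_group C (Finset.mem_filter.1 w.2).2.1)⟩
  let f : (Σ w : DM C J K, ↥(P D F J) ⧸ Stb C J K w.1) → D.group F ⧸ D.parabolicIn F K := fun x =>
    Quotient.liftOn' x.2 (fun a => QuotientGroup.mk (up x.1 a)) (by
      intro a b hab
      rw [QuotientGroup.leftRel_apply, mem_Stb] at hab
      refine QuotientGroup.eq.2 ?_
      show (((a : GL D.Idx F) * nw C x.1.1)⁻¹ * ((b : GL D.Idx F) * nw C x.1.1)) ∈ P D F K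
      simpa [mul_assoc] using hab)
  have hmk : ∀ w a, f ⟨w, QuotientGroup.mk a⟩ = QuotientGroup.mk (up w a) := fun w a => rfl
  have hf : Function.Bijective f := by
    constructor
    · rintro ⟨w, x⟩ ⟨w', x'⟩ e
      induction x using QuotientGroup.induction_on with | _ a => ?_
      induction x' using QuotientGroup.induction_on with | _ a' => ?_
      rw [hmk, hmk] at e
      have e' : ((a : GL D.Idx F) * nw C w.1)⁻¹ * ((a' : GL D.Idx F) * nw C w'.1) ∈ P D F K := by
        have e'' := QuotientGroup.eq.1 e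
        exact e''
      obtain rfl : w' = w := Subtype.ext (dm_eq_of_mul C w.2 w'.2
        (mul_mem (inv_mem a'.2) a.2) e' (by group))
      rw [show (QuotientGroup.mk a : ↥(P D F J) ⧸ Stb C J K w'.1) = QuotientGroup.mk a' from
        QuotientGroup.eq.2 ((mem_Stb C).2 (by simpa [mul_assoc] using e'))]
    · intro q
      induction q using QuotientGroup.induction_on with | _ g => ?_
      obtain ⟨w, hw, a, ha, b, hb, hg⟩ := dm_cover C (J := J) K g.2
      refine ⟨⟨⟨w, hw⟩, QuotientGroup.mk ⟨a, ha⟩⟩, QuotientGroup.eq.2 ?_⟩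
      show (a * nw C w)⁻¹ * (g : GL D.Idx F) ∈ P D F K
      rw [hg, inv_mul_cancel_left]
      exact hb
  have hequiv : ∀ x : Σ w : DM C J K, ↥(P D F J) ⧸ Stb C J K w.1,
      f ⟨x.1, (⟨s, hs⟩ : P D F J) • x.2⟩ = s • f x := by
    rintro ⟨w, x⟩
    induction x using QuotientGroup.induction_on with | _ a => ?_
    show f ⟨w, QuotientGroup.mk (⟨s, hs⟩ * a)⟩ = s • f ⟨w, QuotientGroup.mk a⟩
    rw [hmk, hmk]
    exact congrArg QuotientGroup.mk (Subtype.ext (mul_assoc (s : GL D.Idx F) a (nw C w.1)))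
  rw [← Nat.cast_sum, ← Finset.sum_coe_sort, Cfsg.fixedPointCharacter, Nat.cast_inj]
  simp only [fx]
  rw [← Nat.card_sigma]
  let e : (Σ w : DM C J K, {x : ↥(P D F J) ⧸ Stb C J K w.1 // (⟨s, hs⟩ : P D F J) • x = x}) ≃
      {x : Σ w : DM C J K, ↥(P D F J) ⧸ Stb C J K w.1 // (⟨s, hs⟩ : P D F J) • x.2 = x.2} :=
    { toFun := fun x => ⟨⟨x.1, x.2.1⟩, x.2.2⟩
      invFun := fun x => ⟨x.1.1, ⟨x.1.2, x.2⟩⟩
      left_inv := fun _ => rfl
      right_inv := fun _ => rfl }
  refine (Nat.card_congr (e.trans ((Equiv.ofBijective f hf).subtypeEquiv fun x => ?_))).symm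
  rw [MulAction.mem_fixedBy]
  show _ ↔ s • f x = f x
  rw [← hequiv, hf.1.eq_iff]
  exact ⟨fun h => by rw [h], fun h => eq_of_heq (Sigma.ext_iff.1 h).2⟩

/-- The distinguished element `w_J w_0`. -/
noncomputable def wTop (J : Finset ℕ) : Equiv.Perm (Fin D.nroots) :=
  w0 C J * w0 C (Finset.range D.rank)

theorem wTop_mem (J : Finset ℕ) : wTop C J ∈ C.hR.weyl :=
  mul_mem (WS_le C.hR _ (w0_mem C J)) (WS_le C.hR _ (w0_mem C _))

theorem wTop_inv (J : Finset ℕ) : (wTop C J)⁻¹ = w0 C (Finset.range D.rank) * w0 C J := by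
  rw [wTop, mul_inv_rev, negOn_inv C.hR (w0_mem C _) (w0_neg C _),
    negOn_inv C.hR (w0_mem C _) (w0_neg C _)]

theorem wTop_good (J : Finset ℕ) : Good C.R (wTop C J) J := by
  intro j hj
  obtain ⟨j', -, h1⟩ := negOn_simple C.hR (w0_mem C J) (w0_neg C J) hj
  obtain ⟨k, -, h2⟩ := negOn_simple C.hR (w0_mem C (Finset.range D.rank)) (w0_neg C _)
    (Finset.mem_range.2 j'.isLt)
  refine ⟨k, ?_⟩
  rw [wTop_inv, Equiv.Perm.mul_apply, h1, apply_negR C.hR (WS_le C.hR _ (w0_mem C _)), h2, negR_negR]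

theorem wTop_asc (J : Finset ℕ) :
    asc C.R (wTop C J) (Finset.range D.rank) = pre C.R (wTop C J) J := by
  refine Finset.Subset.antisymm (fun k hk => ?_) (pre_subset_asc _ _)
  obtain ⟨hkA, hpos⟩ := Finset.mem_filter.1 hk
  have hlt := Finset.mem_range.1 hkA
  obtain ⟨k', -, h1⟩ := negOn_simple C.hR (w0_mem C (Finset.range D.rank)) (w0_neg C _)
    (k := ⟨k, hlt⟩) hkA
  have hwJ := WS_le C.hR _ (w0_mem C J)
  have h2 : wTop C J (sroot C.R ⟨k, hlt⟩) = negR C.R (w0 C J (sroot C.R k')) := by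
    rw [wTop, Equiv.Perm.mul_apply, h1, apply_negR C.hR hwJ]
  by_cases hk' : k'.val ∈ J
  · obtain ⟨j, hj, h3⟩ := negOn_simple C.hR (w0_mem C J) (w0_neg C J) hk'
    exact (mem_pre (k := ⟨k, hlt⟩)).2 ⟨j, hj, by rw [h2, h3, negR_negR]⟩
  · exfalso
    have h3 := hpos hlt
    rw [h2, C.R.isPos_iff] at h3
    have h4 := h3.2 k'
    rw [α_negR, Pi.neg_apply, C.hR.weylSub_fix (w0_mem C J) _ k' (fun h => hk' (mem_fs.1 h)),
      α_sroot, Pi.single_eq_same, Pi.zero_apply] at h4
    exact absurd h4 (by norm_num)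

theorem eq_wTop {w : Equiv.Perm (Fin D.nroots)} (hw : w ∈ C.hR.weyl) (hg : Good C.R w J)
    (hasc : asc C.R w (Finset.range D.rank) = pre C.R w J) : w = wTop C J := by
  have hwJ := WS_le C.hR _ (w0_mem C J)
  have hneg : NegOn C.R (w0 C J * w) (Finset.range D.rank) := by
    intro k hk
    rw [Equiv.Perm.mul_apply]
    by_cases hk0 : k.val ∈ pre C.R w J
    · obtain ⟨j, hj, hjk⟩ := mem_pre.1 hk0
      rw [hjk]
      exact w0_neg C J j hj
    · have hn : D.IsNegRoot (w (sroot C.R k)) := by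
        refine (pos_or_negOn C.hR k).resolve_left fun hp => hk0 ?_
        rw [← hasc]
        exact Finset.mem_filter.2 ⟨hk, fun _ => hp⟩
      obtain ⟨m, hm, hm0⟩ : ∃ m : Fin D.rank, m.val ∉ J ∧ C.R.α (w (sroot C.R k)) m ≠ 0 := by
        by_contra hcon
        push Not at hcon
        have hp := apply_pos C.hR (inv_mem hw) hg.posOn (negR_pos hn) fun m hm => by
          rw [α_negR, Pi.neg_apply, hcon m hm, neg_zero]
        rw [apply_negR C.hR (inv_mem hw), Equiv.Perm.inv_def, Equiv.symm_apply_apply] at hp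
        exact C.R.not_pos_and_neg hp (negR_neg (C.R.simple_pos k))
      refine (C.R.pos_or_neg (w0 C J (w (sroot C.R k))).isLt).resolve_left fun hp => hm0 ?_
      have h1 := ((C.R.isPos_iff _).1 hp).2 m
      rw [C.hR.weylSub_fix (w0_mem C J) _ m fun h => hm (mem_fs.1 h)] at h1
      exact le_antisymm (((C.R.isNeg_iff _).1 hn).2 m) h1
  have h := negOn_unique C.hR (by rw [WS_range]; exact mul_mem hwJ hw) (w0_mem C _) hneg (w0_neg C _)
  rw [wTop, ← h, ← mul_assoc]
  nth_rewrite 1 [← negOn_inv C.hR (w0_mem C J) (w0_neg C J)]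
  rw [inv_mul_cancel, one_mul]

/-- For `w_J w_0` the stabilizer is the Levi subgroup. -/
theorem stb_wTop (J : Finset ℕ) :
    Stb C J (pre C.R (wTop C J) J) (wTop C J) =
      (D.leviSubgroup F (J : Set ℕ)).subgroupOf (P D F J) := by
  have hw := wTop_mem C J
  refine le_antisymm (fun a ha => ?_) fun a ha => (mem_Stb C).2 (levi_conj C hw (wTop_good C J) ha)
  have hpos : PosOn C.R (wTop C J) (pre C.R (wTop C J) J) :=
    ((subset_asc (A := Finset.range D.rank) (le_refl _)).1 (pre_subset_asc _ _)).2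
  obtain ⟨u, hu, l, hl, hul, hB⟩ := stb_radical C hw (wTop_good C J) hpos (le_refl _) ha
  have hN : (nw C (wTop C J))⁻¹ * u * ((nw C (wTop C J))⁻¹)⁻¹ ∈ D.negUnipotent F := by
    rw [C.radical_eq] at hu
    refine C.conj_Ucl_le (Moves.inv C (nw_mem C hw) (nw_moves C hw)) (fun r hr t => ?_) u hu
    refine C.xGL_mem_negUnipotent ?_ t
    obtain ⟨m, hm, hm0⟩ : ∃ m : Fin D.rank, m.val ∉ J ∧ C.R.α r m ≠ 0 := by
      by_contra hcon
      push Not at hcon
      exact hr.2 (C.hR.inRootSub_iff.2 ⟨r.isLt, fun m hm => hcon m fun h => hm (mem_fs.2 h)⟩)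
    have hp : D.IsPosRoot (w0 C J r) := by
      refine (C.R.pos_or_neg (w0 C J r).isLt).resolve_right fun hn => hm0 ?_
      have h1 := ((C.R.isNeg_iff _).1 hn).2 m
      rw [C.hR.weylSub_fix (w0_mem C J) _ m fun h => hm (mem_fs.1 h)] at h1
      exact le_antisymm h1 (((C.R.isPos_iff _).1 hr.1).2 m)
    rw [wTop_inv, Equiv.Perm.mul_apply]
    exact negOn_apply C.hR (WS_le C.hR _ (w0_mem C _)) (w0_neg C _) hp
      fun m hm => absurd (Finset.mem_range.2 m.isLt) hm
  rw [inv_inv] at hN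
  have h1 := (Subgroup.eq_bot_iff_forall _).1 C.borel_inf_negUnipotent _
    (Subgroup.mem_inf.2 ⟨hB, hN⟩)
  have hu1 : u = 1 := by
    rw [mul_eq_one_iff_eq_inv, inv_mul_eq_iff_eq_mul, mul_inv_cancel] at h1
    exact h1
  rw [Subgroup.mem_subgroupOf, hul, hu1, one_mul]
  exact hl

include C in
theorem fx_eq_zero [Finite F] {s : D.group F} (hs : (s : GL D.Idx F) ∈ P D F J) {J' : Finset ℕ}
    (hmin : ∀ g : D.group F, ((g⁻¹ * s * g : D.group F) : GL D.Idx F) ∉ P D F J')
    {H : Subgroup (P D F J)} (hH : ∀ a ∈ H, (a : GL D.Idx F) ∈ P D F J') : fx H ⟨s, hs⟩ = 0 := by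
  have : IsEmpty {x : ↥(P D F J) ⧸ H // (⟨s, hs⟩ : P D F J) • x = x} := ⟨fun x => by
    obtain ⟨x, hx⟩ := x
    induction x using QuotientGroup.induction_on with | _ a => ?_
    change QuotientGroup.mk (⟨s, hs⟩ * a) = QuotientGroup.mk a at hx
    have h := hH _ (QuotientGroup.eq.1 hx.symm)
    refine hmin ⟨a, P_le_group C J a.2⟩ ?_
    simpa [mul_assoc] using h⟩
  exact Nat.card_of_isEmpty

include C in
/-- The Steinberg character at a minimal position. -/
theorem steinberg_minimal [Finite F] (s : D.group F) (hs : (s : GL D.Idx F) ∈ P D F J)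
    (hmin : ∀ J' ⊆ J, J' ≠ J → ∀ g : D.group F,
      ((g⁻¹ * s * g : D.group F) : GL D.Idx F) ∉ P D F J') :
    ∃ e : ℕ, D.steinbergCharacter F s = (-1 : ℂ) ^ e *
      (fx ((D.leviSubgroup F (J : Set ℕ)).subgroupOf (P D F J)) ⟨s, hs⟩ : ℂ) := by
  set A := Finset.range D.rank with hA
  let S := Finset.univ.filter fun w : Equiv.Perm (Fin D.nroots) => w ∈ C.hR.weyl ∧ Good C.R w J
  let f := fun w => (fx (Stb C J (pre C.R w J) w) ⟨s, hs⟩ : ℂ)
  have hterm : ∀ K ∈ A.powerset, (-1 : ℂ) ^ K.card * Cfsg.fixedPointCharacter (D.parabolicIn F K) s =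
      ∑ w ∈ S, f w * ((if pre C.R w J ⊆ K ∧ K ⊆ asc C.R w A then (-1 : ℤ) ^ K.card else 0 : ℤ) : ℂ) := by
    intro K hK
    rw [fixed_eq_sum C K s hs, Finset.mul_sum]
    rw [← Finset.sum_filter_of_ne (p := fun w => w ∈ S ∧ pre C.R w J ⊆ K)]
    · rw [← Finset.sum_filter_of_ne (s := S) (p := fun w => pre C.R w J ⊆ K ∧ K ⊆ asc C.R w A)]
      · refine Finset.sum_congr ?_ fun w hw => ?_
        · ext w
          simp only [S, DM, Finset.mem_filter, Finset.mem_univ, true_and, subset_asc (le_refl A),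
            Finset.mem_powerset.1 hK]
          exact ⟨fun ⟨⟨_, h1, _⟩, ⟨h2, h3⟩, h4⟩ => ⟨⟨h2, h3⟩, h4, h1⟩,
            fun ⟨⟨h2, h3⟩, h4, h1⟩ => ⟨⟨h2, h1, h3.posOn⟩, ⟨h2, h3⟩, h4⟩⟩
        · simp only [S, Finset.mem_filter, Finset.mem_univ, true_and] at hw
          obtain ⟨⟨hwW, hg⟩, h1, h2⟩ := hw
          rw [if_pos ⟨h1, h2⟩, stb_eq C hwW hg ((subset_asc (le_refl A)).1 h2).2 h1]
          push_cast
          ring
      · intro w _ hne
        by_contra h
        exact hne (by rw [if_neg h]; simp)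
    · intro w hw hne
      obtain ⟨-, hwW, h1, h2⟩ := Finset.mem_filter.1 hw
      have hmeet : meet C.R w J K = J := by
        by_contra hc
        refine hne ?_
        rw [fx_eq_zero C hs (hmin _ (Finset.filter_subset _ _) hc) fun a ha => stb_le C hwW h1 h2 ha,
          Nat.cast_zero, mul_zero]
      obtain ⟨hg, hsub⟩ := good_of_meet_eq hmeet
      exact ⟨Finset.mem_filter.2 ⟨Finset.mem_univ _, hwW, hg⟩, hsub⟩
  refine ⟨(pre C.R (wTop C J) J).card, ?_⟩
  rw [show D.steinbergCharacter F s =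
    ∑ K ∈ A.powerset, (-1 : ℂ) ^ K.card * Cfsg.fixedPointCharacter (D.parabolicIn F K) s from rfl,
    Finset.sum_congr rfl hterm, Finset.sum_comm, Finset.sum_eq_single (wTop C J)]
  · rw [← Finset.mul_sum, ← Int.cast_sum, sum_interval (pre_subset_asc _ _) (Finset.filter_subset _ _),
      if_pos (wTop_asc C J)]
    simp only [f, stb_wTop C J]
    push_cast
    ring
  · intro w hw hne
    obtain ⟨-, hwW, hg⟩ := Finset.mem_filter.1 hw
    rw [← Finset.mul_sum, ← Int.cast_sum, sum_interval (pre_subset_asc _ _) (Finset.filter_subset _ _),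
      if_neg fun h => hne (eq_wTop C hwW hg h), Int.cast_zero, mul_zero]
  · exact fun h => absurd (Finset.mem_filter.2 ⟨Finset.mem_univ _, wTop_mem C J, wTop_good C J⟩) h

end CfsgLib.SteinbergChar
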