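import Cfsg.Agent.Lib.SteinbergChar.Count
import Cfsg.Agent.Lib.Blocks.DefectZeroVanish

/-!
The Steinberg character is irreducible of defect zero.
-/

set_option autoImplicit false

namespace CfsgLib.SteinbergChar

open Cfsg.Lie CfsgLib.ChevStr CfsgLib.ChevStr.ChevCore CfsgLib.KnownSimple
open scoped Classical MatrixGroups ComplexConjugate

variable {D : ChevalleyDatum} {F : Type*} [Field F] (C : ChevCore D F)

include C

theorem right_cells {J : Finset ℕ} {g : GL D.Idx F} (hg : g ∈ P D F J) {n y : GL D.Idx F}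
    {x : Equiv.Perm (Fin D.nroots)} (hn : n ∈ D.monomialSubgroup F) (hx : C.Moves n x)
    (hy : y ∈ C.bigCell n) : ∃ a ∈ WS C.hR J, ∃ m ∈ D.monomialSubgroup F, C.Moves m (x * a) ∧
      y * g ∈ C.bigCell m := by
  obtain ⟨a, ha, m, hm, hmx, h⟩ :=
    left_cells C (inv_mem hg) n⁻¹ y⁻¹ x⁻¹ (inv_mem hn) (Moves.inv C hn hx) (C.inv_mem_bigCell hy)
  refine ⟨a⁻¹, inv_mem ha, m⁻¹, inv_mem hm, ?_, ?_⟩
  · have := Moves.inv C hm hmx
    rwa [mul_inv_rev, inv_inv] at this
  · simpa using C.inv_mem_bigCell h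

/-- Doubly minimal representatives. -/
noncomputable def DM (J K : Finset ℕ) : Finset (Equiv.Perm (Fin D.nroots)) :=
  Finset.univ.filter fun w => w ∈ C.hR.weyl ∧ PosOn C.R w K ∧ PosOn C.R w⁻¹ J

theorem nw_mem_group {w : Equiv.Perm (Fin D.nroots)} (hw : w ∈ C.hR.weyl) : nw C w ∈ D.group F :=
  C.monomial_le_group (nw_mem C hw)

theorem card_doubleCoset (J K : Finset ℕ) :
    Nat.card (DoubleCoset.Quotient (((P D F J).subgroupOf (D.group F) : Subgroup _) : Set ↥(D.group F))
      ((P D F K).subgroupOf (D.group F))) = (DM C J K).card := by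
  let f : DM C J K → DoubleCoset.Quotient (((P D F J).subgroupOf (D.group F) : Subgroup _) : Set ↥(D.group F))
      ((P D F K).subgroupOf (D.group F)) := fun w =>
    DoubleCoset.mk _ _ ⟨nw C w.1, nw_mem_group C (Finset.mem_filter.1 w.2).2.1⟩
  have hf : Function.Bijective f := by
    constructor
    · rintro ⟨w, hw⟩ ⟨w', hw'⟩ e
      obtain ⟨-, hwW, h1, h2⟩ := Finset.mem_filter.1 hw
      obtain ⟨-, hwW', h1', h2'⟩ := Finset.mem_filter.1 hw'
      obtain ⟨a, ha, b, hb, hab⟩ := (DoubleCoset.eq _ _ _ _).1 e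
      have hab' : nw C w' = (a : GL D.Idx F) * nw C w * b := congrArg Subtype.val hab
      obtain ⟨b', hb', m, hm, hmx, hcell⟩ :=
        right_cells C (J := K) hb (nw_mem C hwW) (nw_moves C hwW) (C.self_mem_bigCell _)
      obtain ⟨a', ha', m', hm', hmx', hcell'⟩ := left_cells C (J := J) ha m _ _ hm hmx hcell
      replace hcell' : nw C w' ∈ C.bigCell m' := by
        rw [hab', mul_assoc]; exact hcell'
      have hw'' := C.moves_eq_of_mem (nw_mem C hwW') hm' (nw_moves C hwW') hmx' hcell'
      rw [← mul_assoc] at hw''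
      subst hw''
      exact Subtype.ext (dm_unique C.hR hwW ha' hb' h1 h2 h1' h2').symm
    · intro q
      induction q using Quotient.inductionOn with | _ g => ?_
      obtain ⟨w, hw, b, hb, n, hn, hnw, u, hu, hg⟩ := C.normalForm_exists g.2
      obtain ⟨a, ha, a', ha', h1, h2⟩ := dm_exists C.hR J K hw
      set y := a * w * a' with hy
      have hyW : y ∈ C.hR.weyl := mul_mem (mul_mem (WS_le C.hR J ha) hw) (WS_le C.hR K ha')
      refine ⟨⟨y, Finset.mem_filter.2 ⟨Finset.mem_univ _, hyW, h1, h2⟩⟩, ?_⟩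
      have haW := WS_le C.hR J (inv_mem ha)
      have haW' := WS_le C.hR K (inv_mem ha')
      set t := nw C a⁻¹ * nw C y * nw C a'⁻¹ with ht
      have htN : t ∈ D.monomialSubgroup F :=
        mul_mem (mul_mem (nw_mem C haW) (nw_mem C hyW)) (nw_mem C haW')
      have htw : C.Moves t w := by
        have := Moves.mul C (Moves.mul C (nw_moves C haW) (nw_moves C hyW)) (nw_moves C haW')
        rwa [hy, show a⁻¹ * (a * w * a') * a'⁻¹ = w by group] at this
      have hd : n * t⁻¹ ∈ D.borelSubgroup F := by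
        refine mem_borel_of_moves_one C (mul_mem hn (inv_mem htN)) ?_
        simpa using Moves.mul C hnw (Moves.inv C htN htw)
      have hp : b * (n * t⁻¹) * nw C a⁻¹ ∈ P D F J :=
        mul_mem (borel_le_P J (mul_mem hb hd)) (nw_mem_P C (inv_mem ha))
      have hq : nw C a'⁻¹ * u ∈ P D F K :=
        mul_mem (nw_mem_P C (inv_mem ha')) (borel_le_P K (C.Ucl_invRoots_le _ hu))
      refine (DoubleCoset.eq _ _ _ _).2 ⟨⟨_, P_le_group C J hp⟩, hp, ⟨_, P_le_group C K hq⟩, hq,
        Subtype.ext ?_⟩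
      show (g : GL D.Idx F) = b * (n * t⁻¹) * nw C a⁻¹ * nw C y * (nw C a'⁻¹ * u)
      rw [show (g : GL D.Idx F) = b * n * u from hg, ht]
      group
  rw [← Nat.card_eq_of_bijective f hf, Nat.card_eq_fintype_card, Fintype.card_coe]

theorem steinberg_eq_sum : D.steinbergCharacter F = ∑ J ∈ (Finset.range D.rank).powerset,
    ((-1 : ℤ) ^ J.card : ℤ) • (Cfsg.fixedPointCharacter ((P D F J).subgroupOf (D.group F))) := by
  funext g
  simp only [Cfsg.Lie.ChevalleyDatum.steinbergCharacter, Finset.sum_apply, Pi.smul_apply, zsmul_eq_mul,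
    Int.cast_pow, Int.cast_neg, Int.cast_one]
  rfl

theorem norm_steinberg [Fintype F] [Fintype (D.group F)] :
    Cfsg.classInner (D.steinbergCharacter F) (D.steinbergCharacter F) = 1 := by
  rw [steinberg_eq_sum C, CfsgLib.Characters.classInner_sum_left]
  simp only [CfsgLib.Characters.classInner_sum_right, ← Int.cast_smul_eq_zsmul ℂ,
    CfsgLib.Characters.classInner_smul_left, CfsgLib.Characters.classInner_smul_right,
    CfsgLib.GLFlags.classInner_fixedPointCharacter, card_doubleCoset C, map_intCast]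
  set A := Finset.range D.rank with hA
  have key : ∀ J K : Finset ℕ, ((((-1 : ℤ) ^ K.card : ℤ) : ℂ)) *
      ((((-1 : ℤ) ^ J.card : ℤ) : ℂ) * ((DM C J K).card : ℂ)) =
      ((∑ w ∈ Finset.univ.filter (fun w => w ∈ C.hR.weyl),
        (if PosOn C.R w⁻¹ J then (-1 : ℤ) ^ J.card else 0) *
          (if PosOn C.R w K then (-1 : ℤ) ^ K.card else 0) : ℤ) : ℂ) := by
    intro J K
    rw [DM, ← Finset.filter_filter, Finset.card_filter]
    simp only [Nat.cast_sum, Nat.cast_ite, Nat.cast_one, Nat.cast_zero, Finset.mul_sum, Int.cast_sum,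
      Int.cast_mul]
    refine Finset.sum_congr rfl fun w _ => ?_
    by_cases h1 : PosOn C.R w⁻¹ J <;> by_cases h2 : PosOn C.R w K <;> simp [h1, h2, mul_comm]
  simp only [key, ← Int.cast_sum]
  rw [Int.cast_eq_one, Finset.sum_congr rfl fun J _ => Finset.sum_comm, Finset.sum_comm]
  simp only [← Finset.mul_sum, ← Finset.sum_mul, sum_posOn C.hR _ (le_refl A)]
  rw [Finset.sum_eq_single (w0 C A)]
  · rw [negOn_inv C.hR (w0_mem C A) (w0_neg C A)]
    simp [w0_neg C A]
  · intro w hw hne
    have hwA : w ∈ WS C.hR A := by rw [hA, WS_range]; exact (Finset.mem_filter.1 hw).2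
    have : ¬ NegOn C.R w A := fun h => hne (negOn_unique C.hR hwA (w0_mem C A) h (w0_neg C A))
    simp [this]
  · intro h
    exact absurd (Finset.mem_filter.2 ⟨Finset.mem_univ _, WS_le C.hR A (w0_mem C A)⟩) h

theorem isIrrCharacter_steinberg [Fintype F] :
    Cfsg.IsIrrCharacter ↥(D.group F) (D.steinbergCharacter F) := by
  have := Fintype.ofFinite (D.group F)
  refine CfsgLib.Characters.isIrrCharacter_of_generalized_norm_one ?_ (norm_steinberg C) ?_
  · rw [steinberg_eq_sum C]
    exact CfsgLib.Characters.isGeneralizedCharacter_sum _ fun J _ =>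
      CfsgLib.Characters.isGeneralizedCharacter_zsmul
        (CfsgLib.Characters.isGeneralizedCharacter_of_isCharacter
          (CfsgLib.GLFlags.isCharacter_fixedPointCharacter _)) _
  · rw [steinberg_one C, ← Nat.cast_pow, Complex.natCast_re]
    positivity

theorem steinberg_vanish [Fintype F] (p : ℕ) [Fact p.Prime] [CharP F p] {g : D.group F}
    (hg : p ∣ orderOf g) : D.steinbergCharacter F g = 0 := by
  have := Fintype.ofFinite (D.group F)
  refine CfsgLib.DefectZeroVanish.vanish_of_defect_zero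
    (⟨_, isIrrCharacter_steinberg C⟩ : Cfsg.IrrCharacter ↥(D.group F)) ?_ hg
  rw [factorization_card_group C p]
  refine dvd_of_eq (Eq.symm ?_)
  have h1 := steinberg_one C
  rw [← Nat.cast_pow] at h1
  simp only [Cfsg.charDegree, h1, Complex.natCast_re, Nat.floor_natCast]

end CfsgLib.SteinbergChar
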