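import Cfsg.Agent.Lib.SteinbergChar.Minimal
import Cfsg.Agent.Lib.SteinbergChar.DefectZero
import Cfsg.Agent.Lib.Coprime.Action

/-!
The value of the Steinberg character at an element of order prime to `p`: up to sign the `p`-part of the
order of its centralizer.

At a minimal position the value is `±` the order of the subgroup of the radical centralizing a Levi
conjugate; the reverse divisibility is the integrality of the Hecke operator of the element on the fixed
space of a Sylow subgroup of its centralizer.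
-/

set_option autoImplicit false

namespace CfsgLib.SteinbergChar

open Cfsg.Lie CfsgLib.ChevStr CfsgLib.ChevStr.ChevCore CfsgLib.KnownSimple
open scoped Classical MatrixGroups

section Divisibility

/-- An irreducible character vanishing on the elements of order divisible by `p` is, at a `p`-regular
element, a multiple of every `p`-subgroup of the centralizer. -/
theorem card_dvd_of_vanish {G : Type*} [Group G] [Fintype G] {p : ℕ} [Fact p.Prime] {χ : G → ℂ}
    (hχ : Cfsg.IsIrrCharacter G χ) (hvan : ∀ g, p ∣ orderOf g → χ g = 0) {s : G}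
    (hs : ¬ p ∣ orderOf s) {P : Subgroup G} (hP : IsPGroup p P) (hcomm : ∀ x ∈ P, x * s = s * x)
    {c : ℕ} (hc : χ s = (c : ℂ) ∨ χ s = -(c : ℂ)) : Nat.card P ∣ c := by
  obtain ⟨n, M, -, htr⟩ := CfsgLib.Chars17.IsIrrCharacter.exists_mat hχ
  have hsN : s ∈ Subgroup.normalizer (P : Set G) := Subgroup.mem_normalizer_iff.2 fun x => by
    refine ⟨fun hx => ?_, fun hx => ?_⟩
    · rwa [← hcomm x hx, mul_inv_cancel_right]
    · have h : s * x = s * (s * x * s⁻¹) := by rw [← hcomm _ hx]; group
      rwa [← mul_left_cancel h] at hx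
  have hstab : DefectZero.stab P s = P := by
    refine le_antisymm inf_le_left fun x hx => DefectZero.mem_stab.2 ⟨hx, ?_⟩
    rwa [mul_assoc, hcomm x hx, inv_mul_cancel_left]
  have hT : DefectZero.T M P s = M s * DefectZero.avg M P := by
    rw [DefectZero.T, hstab, div_self (DefectZero.card_ne_zero P), one_smul,
      ← DefectZero.avg_commute M P hsN, mul_assoc, DefectZero.avg_mul_avg]
  have hval : (DefectZero.T M P s).trace = (Nat.card P : ℂ)⁻¹ * χ s := by
    rw [hT, DefectZero.avg, mul_smul_comm, Matrix.trace_smul, Finset.mul_sum, Matrix.trace_sum,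
      smul_eq_mul, Finset.sum_eq_single (1 : P)]
    · rw [← map_mul, htr, OneMemClass.coe_one, mul_one]
    · intro u _ hu
      rw [← map_mul, htr]
      refine hvan _ ?_
      obtain ⟨k, hk⟩ := IsPGroup.iff_orderOf.1 hP u
      have hu' : orderOf (u : G) = p ^ k := by rw [orderOf_submonoid (u : P.toSubmonoid)] at *; exact hk
      have hk0 : k ≠ 0 := by
        rintro rfl
        rw [pow_zero, orderOf_eq_one_iff] at hk
        exact hu hk
      have hcop : (orderOf s).Coprime (orderOf (u : G)) := by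
        rw [hu']
        exact (Nat.Coprime.pow_left k ((Fact.out : p.Prime).coprime_iff_not_dvd.2 hs)).symm
      rw [(Commute.orderOf_mul_eq_mul_orderOf_of_coprime (hcomm u u.2).symm hcop), hu']
      exact dvd_mul_of_dvd_right (dvd_pow_self p hk0) _
    · exact fun h => absurd (Finset.mem_univ _) h
  have hint : IsIntegral ℤ ((c : ℂ) / (Nat.card P : ℂ)) := by
    have h := (DefectZero.isHecke_T M P s).trace_isIntegral
    rw [hval] at h
    rcases hc with hc | hc <;> rw [hc] at h
    · rwa [div_eq_inv_mul]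
    · rw [mul_neg] at h
      rw [div_eq_inv_mul]
      simpa using h.neg
  rw [show ((c : ℂ) / (Nat.card P : ℂ)) = algebraMap ℚ ℂ ((c : ℚ) / (Nat.card P : ℚ)) by simp,
    isIntegral_algebraMap_iff (algebraMap ℚ ℂ).injective] at hint
  obtain ⟨z, hz⟩ := IsIntegrallyClosed.isIntegral_iff.1 hint
  have hP0 : (Nat.card P : ℚ) ≠ 0 := Nat.cast_ne_zero.2 Nat.card_pos.ne'
  have hz' : (z : ℚ) * (Nat.card P : ℚ) = c := by
    rw [show (z : ℚ) = c / Nat.card P from hz]
    field_simp
  exact Int.natCast_dvd_natCast.1 ⟨z, by rw [mul_comm]; exact_mod_cast hz'.symm⟩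

end Divisibility

variable {D : ChevalleyDatum} {F : Type*} [Field F] (C : ChevCore D F) [Fintype F]
  (p : ℕ) [Fact p.Prime] [CharP F p]

include C

/-- An element of order prime to `p` of a parabolic subgroup is conjugate under the radical into the Levi
subgroup. -/
theorem exists_conj_levi {J : Finset ℕ} {s : GL D.Idx F} (hs : s ∈ P D F J) (hp : ¬ p ∣ orderOf s) :
    ∃ u ∈ D.unipotentRadical F (J : Set ℕ), u⁻¹ * s * u ∈ D.leviSubgroup F (J : Set ℕ) := by
  set U := D.unipotentRadical F (J : Set ℕ) with hU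
  obtain ⟨u0, hu0, l, hl, hsl⟩ := P_decomp C hs
  have hlP : l ∈ P D F J := C.radical_sup_levi.le (le_sup_right (a := U) hl)
  have hlN : l ∈ Subgroup.normalizer (U : Set (GL D.Idx F)) := C.parabolic_le_normalizer hlP
  have hpow : ∀ i : ℕ, ∃ v ∈ U, s ^ i = v * l ^ i := by
    intro i
    induction i with
    | zero => exact ⟨1, one_mem _, by simp⟩
    | succ i ih =>
      obtain ⟨v, hv, he⟩ := ih
      refine ⟨v * (l ^ i * u0 * (l ^ i)⁻¹),
        mul_mem hv ((Subgroup.mem_normalizer_iff.1 (pow_mem hlN i) u0).1 hu0), ?_⟩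
      rw [pow_succ, he, hsl, pow_succ]
      group
  obtain ⟨v, hv, he⟩ := hpow (orderOf s)
  rw [pow_orderOf_eq_one] at he
  have hlord : l ^ orderOf s = 1 := (Subgroup.eq_bot_iff_forall _).1 C.radical_inf_levi _
    (Subgroup.mem_inf.2 ⟨by rw [eq_inv_of_mul_eq_one_right he.symm]; exact inv_mem hv, pow_mem hl _⟩)
  have hUle : U ≤ D.posUnipotent F := by
    rw [hU, C.radical_eq, C.posUnipotent_eq]
    exact C.Ucl_mono fun r hr => hr.1
  have hUcard : ∃ e, Nat.card U = p ^ e := by
    obtain ⟨m, -, hm⟩ := FiniteField.card F p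
    have h := Subgroup.card_dvd_of_le hUle
    rw [card_posUnipotent C, hm, ← pow_mul] at h
    obtain ⟨e, -, he⟩ := (Nat.dvd_prime_pow (Fact.out : p.Prime)).1 h
    exact ⟨e, he⟩
  obtain ⟨e, he'⟩ := hUcard
  have hcop : ∀ d, d ∣ orderOf s → d.Coprime (Nat.card U) := fun d hd => by
    rw [he']
    exact Nat.Coprime.pow_right e (Nat.Coprime.coprime_dvd_left hd
      ((Fact.out : p.Prime).coprime_iff_not_dvd.2 hp).symm)
  have hA : Subgroup.zpowers l ≤ Subgroup.normalizer (U : Set (GL D.Idx F)) := by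
    rwa [Subgroup.zpowers_le]
  obtain ⟨x, hx, hle⟩ := CfsgLib.Coprime.exists_conj_le_of_coprime (Subgroup.zpowers l) U hA
    (by rw [Nat.card_zpowers]; exact hcop _ (orderOf_dvd_of_pow_eq_one hlord))
    (Subgroup.zpowers s) (by
      rw [Subgroup.zpowers_le, hsl]
      exact mul_mem (Subgroup.mem_sup_right hu0) (Subgroup.mem_sup_left (Subgroup.mem_zpowers l)))
    (by rw [Nat.card_zpowers]; exact hcop _ dvd_rfl)
    (Or.inl inferInstance)
  refine ⟨x⁻¹, inv_mem hx, ?_⟩
  have h1 : x * s * x⁻¹ ∈ Subgroup.zpowers l := hle ⟨s, Subgroup.mem_zpowers s, rfl⟩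
  rw [inv_inv]
  exact (Subgroup.zpowers_le.2 hl) h1

/-- The fixed points on `P_J / L_J` are the radical elements centralizing a Levi conjugate. -/
theorem fx_levi {J : Finset ℕ} {s : GL D.Idx F} (hs : s ∈ P D F J) {u : GL D.Idx F}
    (hu : u ∈ D.unipotentRadical F (J : Set ℕ))
    (hl : u⁻¹ * s * u ∈ D.leviSubgroup F (J : Set ℕ)) :
    fx ((D.leviSubgroup F (J : Set ℕ)).subgroupOf (P D F J)) ⟨s, hs⟩ =
      Nat.card ↥(D.unipotentRadical F (J : Set ℕ) ⊓ Subgroup.centralizer {u⁻¹ * s * u}) := by
  set U := D.unipotentRadical F (J : Set ℕ) with hU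
  set L := D.leviSubgroup F (J : Set ℕ) with hL
  set t := u⁻¹ * s * u with ht
  have hUP : U ≤ P D F J := le_sup_left.trans C.radical_sup_levi.le
  have hLP : L ≤ P D F J := le_sup_right.trans C.radical_sup_levi.le
  let f : U → ↥(P D F J) ⧸ L.subgroupOf (P D F J) := fun v => QuotientGroup.mk ⟨u * v, mul_mem (hUP hu) (hUP v.2)⟩
  have hf : Function.Bijective f := by
    constructor
    · intro v v' e
      simp only [f, QuotientGroup.eq, Subgroup.mem_subgroupOf] at e
      have h : (u * (v : GL D.Idx F))⁻¹ * (u * (v' : GL D.Idx F)) ∈ L := e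
      rw [mul_inv_rev, mul_assoc, inv_mul_cancel_left] at h
      exact Subtype.ext (inv_mul_eq_one.1 ((Subgroup.eq_bot_iff_forall _).1 C.radical_inf_levi _
        (Subgroup.mem_inf.2 ⟨mul_mem (inv_mem v.2) v'.2, h⟩)))
    · intro q
      induction q using QuotientGroup.induction_on with | _ a => ?_
      obtain ⟨v, hv, l, hl', e⟩ := P_decomp C a.2
      refine ⟨⟨u⁻¹ * v, mul_mem (inv_mem hu) hv⟩, QuotientGroup.eq.2 ?_⟩
      show (u * (u⁻¹ * v))⁻¹ * (a : GL D.Idx F) ∈ L
      rw [e, mul_inv_cancel_left, inv_mul_cancel_left]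
      exact hl'
  have hfix : ∀ v : U, (⟨s, hs⟩ : P D F J) • f v = f v ↔
      (v : GL D.Idx F) ∈ Subgroup.centralizer {t} := by
    intro v
    rw [eq_comm]
    show QuotientGroup.mk _ = QuotientGroup.mk _ ↔ _
    rw [QuotientGroup.eq, Subgroup.mem_subgroupOf]
    show (u * (v : GL D.Idx F))⁻¹ * (s * (u * (v : GL D.Idx F))) ∈ L ↔ _
    rw [show (u * (v : GL D.Idx F))⁻¹ * (s * (u * (v : GL D.Idx F))) = (v : GL D.Idx F)⁻¹ * t * v by
      rw [ht]; group, Subgroup.mem_centralizer_singleton_iff]
    refine ⟨fun h => ?_, fun h => by rw [mul_assoc, ← h, inv_mul_cancel_left]; exact hl⟩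
    have hn := C.parabolic_le_normalizer (hLP hl)
    have h1 := (Subgroup.eq_bot_iff_forall _).1 C.radical_inf_levi (t⁻¹ * ((v : GL D.Idx F)⁻¹ * t * v))
      (Subgroup.mem_inf.2 ⟨by
        rw [show t⁻¹ * ((v : GL D.Idx F)⁻¹ * t * v) = t⁻¹ * (v : GL D.Idx F)⁻¹ * t * v by group]
        refine mul_mem ?_ v.2
        have h2 := (Subgroup.mem_normalizer_iff.1 (inv_mem hn) _).1 (inv_mem v.2)
        simpa using h2, mul_mem (inv_mem hl) h⟩)
    rw [inv_mul_eq_one] at h1
    calc (v : GL D.Idx F) * t = v * ((v : GL D.Idx F)⁻¹ * t * v) := by rw [← h1]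
      _ = t * v := by group
  rw [fx, ← Nat.card_congr ((Equiv.ofBijective f hf).subtypeEquiv
    (p := fun v : U => (v : GL D.Idx F) ∈ Subgroup.centralizer {t}) fun v => (hfix v).symm)]
  exact Nat.card_congr
    { toFun := fun v => ⟨v.1.1, v.1.2, v.2⟩
      invFun := fun v => ⟨⟨v.1, v.2.1⟩, v.2.2⟩
      left_inv := fun _ => rfl
      right_inv := fun _ => rfl }

theorem isClassFunction_steinberg {g h : D.group F} :
    D.steinbergCharacter F (g⁻¹ * h * g) = D.steinbergCharacter F h := by
  obtain ⟨n, M, -, htr⟩ := CfsgLib.Chars17.IsIrrCharacter.exists_mat (isIrrCharacter_steinberg C)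
  rw [← htr, ← htr, map_mul, Matrix.trace_mul_comm, ← map_mul, ← mul_assoc, mul_inv_cancel, one_mul]

/-- The value at an element of order prime to `p`. -/
theorem steinberg_semisimple (g : D.group F) (hg : ¬ p ∣ orderOf g) :
    D.steinbergCharacter F g =
        ((p ^ (Nat.card ↥(Subgroup.centralizer ({g} : Set ↥(D.group F)))).factorization p : ℕ) : ℂ) ∨
      D.steinbergCharacter F g =
        -((p ^ (Nat.card ↥(Subgroup.centralizer ({g} : Set ↥(D.group F)))).factorization p : ℕ) : ℂ) := by
  have hpp : p.Prime := Fact.out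
  have := Fintype.ofFinite (D.group F)
  -- the smallest parabolic subgroup containing a conjugate
  obtain ⟨J, hJ, hmin⟩ := ((Finset.range D.rank).powerset.filter fun J => ∃ x : D.group F,
    ((x⁻¹ * g * x : D.group F) : GL D.Idx F) ∈ P D F J).exists_min_image Finset.card
      ⟨Finset.range D.rank, Finset.mem_filter.2 ⟨Finset.mem_powerset.2 (le_refl _), 1, by
        rw [← group_eq C]; exact Subtype.prop _⟩⟩
  obtain ⟨hJA, x, hxJ⟩ := Finset.mem_filter.1 hJ
  rw [Finset.mem_powerset] at hJA
  set s := x⁻¹ * g * x with hsdef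
  have hconjs : s = MulAut.conj x⁻¹ g := by simp [hsdef]
  have hord : orderOf (s : GL D.Idx F) = orderOf g := by
    rw [Subgroup.orderOf_coe, hconjs]
    exact orderOf_injective (MulAut.conj x⁻¹).toMonoidHom (MulAut.conj x⁻¹).injective g
  obtain ⟨e, he⟩ := steinberg_minimal C s hxJ fun J' hJ' hne y hy => by
    have h := hmin J' (Finset.mem_filter.2 ⟨Finset.mem_powerset.2 (hJ'.trans hJA), x * y, by
      rwa [show (x * y)⁻¹ * g * (x * y) = y⁻¹ * s * y by rw [hsdef]; group]⟩)
    exact hne (Finset.eq_of_subset_of_card_le hJ' h)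
  obtain ⟨u, hu, hul⟩ := exists_conj_levi C p hxJ (by rwa [hord])
  rw [fx_levi C hxJ hu hul] at he
  set t := u⁻¹ * (s : GL D.Idx F) * u with ht
  set Q := D.unipotentRadical F (J : Set ℕ) ⊓ Subgroup.centralizer {t}
  -- its order is a power of p dividing the order of the centralizer
  have hQG : Q ≤ D.group F := inf_le_left.trans (le_sup_left.trans C.radical_sup_levi.le |>.trans
    (P_le_group C J))
  set z : D.group F := x * ⟨u, P_le_group C J ((le_sup_left.trans C.radical_sup_levi.le) hu)⟩
  have hz : ((z⁻¹ * g * z : D.group F) : GL D.Idx F) = t := by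
    simp [z, ht, hsdef, mul_assoc]
  have hQdvd : Nat.card Q ∣ Nat.card (Subgroup.centralizer ({g} : Set (D.group F))) := by
    have hcC : Nat.card (Subgroup.centralizer ({z⁻¹ * g * z} : Set (D.group F))) =
        Nat.card (Subgroup.centralizer ({g} : Set (D.group F))) := by
      refine Nat.card_congr ((MulAut.conj z).toEquiv.subtypeEquiv fun a => ?_)
      show a ∈ Subgroup.centralizer {z⁻¹ * g * z} ↔ z * a * z⁻¹ ∈ Subgroup.centralizer {g}
      rw [Subgroup.mem_centralizer_singleton_iff, Subgroup.mem_centralizer_singleton_iff,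
        ← mul_right_inj z, ← mul_left_inj z⁻¹]
      simp [mul_assoc]
    rw [← hcC, ← Nat.card_congr (Subgroup.subgroupOfEquivOfLe hQG).toEquiv]
    refine Subgroup.card_dvd_of_le fun a ha => Subgroup.mem_centralizer_singleton_iff.2 (Subtype.ext ?_)
    have h := Subgroup.mem_centralizer_singleton_iff.1 (Subgroup.mem_subgroupOf.1 ha).2
    rw [← hz] at h
    exact h
  obtain ⟨k, hk⟩ : ∃ k, Nat.card Q = p ^ k := by
    obtain ⟨m, -, hm⟩ := FiniteField.card F p
    have hle : Q ≤ D.posUnipotent F := by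
      refine inf_le_left.trans ?_
      rw [C.radical_eq, C.posUnipotent_eq]
      exact C.Ucl_mono fun r hr => hr.1
    have h := Subgroup.card_dvd_of_le hle
    rw [card_posUnipotent C, hm, ← pow_mul] at h
    obtain ⟨k, -, hk⟩ := (Nat.dvd_prime_pow hpp).1 h
    exact ⟨k, hk⟩
  rw [hk] at he hQdvd
  have hgx : D.steinbergCharacter F g = D.steinbergCharacter F s := (isClassFunction_steinberg C).symm
  have hsign : D.steinbergCharacter F g = ((p ^ k : ℕ) : ℂ) ∨
      D.steinbergCharacter F g = -((p ^ k : ℕ) : ℂ) := by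
    rw [hgx, he]
    rcases neg_one_pow_eq_or ℂ e with h | h <;> simp [h]
  -- a Sylow subgroup of the centralizer has order dividing the value
  set Cg := Subgroup.centralizer ({g} : Set (D.group F))
  let S : Sylow p Cg := default
  have hS : Nat.card ((S : Subgroup Cg).map Cg.subtype) = p ^ (Nat.card Cg).factorization p := by
    rw [Subgroup.card_map_of_injective Cg.subtype_injective, S.card_eq_multiplicity]
  have hdvd := card_dvd_of_vanish (isIrrCharacter_steinberg C)
    (fun y hy => steinberg_vanish C p hy) hg (P := (S : Subgroup Cg).map Cg.subtype) (S.2.map _)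
    (fun y hy => by
      obtain ⟨⟨y, hyC⟩, -, rfl⟩ := hy
      exact Subgroup.mem_centralizer_singleton_iff.1 hyC) hsign
  rw [hS, Nat.pow_dvd_pow_iff_le_right hpp.one_lt] at hdvd
  have hle := (hpp.pow_dvd_iff_le_factorization Nat.card_pos.ne').1 hQdvd
  rw [le_antisymm hdvd hle]
  exact hsign

end CfsgLib.SteinbergChar
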