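import Cfsg.Agent.Lib.ChevStr.Parabolic

/-!
Minimal representatives of cosets and double cosets of parabolic subgroups of a Weyl group, and the
alternating sums over the subsets of an ascent set.
-/

set_option autoImplicit false

namespace CfsgLib.SteinbergChar

open Cfsg.Lie CfsgLib.ChevStr
open scoped Classical

variable {D : ChevalleyDatum} {R : RootData D} (hR : ReflData R)

/-- The indices in `Fin` of a finite set of numbers. -/
noncomputable abbrev fs (D : ChevalleyDatum) (J : Finset ℕ) : Finset (Fin D.rank) :=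
  finSet D (J : Set ℕ)

/-- The parabolic subgroup of the Weyl group. -/
noncomputable abbrev WS (J : Finset ℕ) : Subgroup (Equiv.Perm (Fin D.nroots)) :=
  hR.weylSub (fs D J)

/-- The fundamental root as an element of `Fin`. -/
def sroot (R : RootData D) (i : Fin D.rank) : Fin D.nroots := ⟨D.simple i.val, R.simple_lt i⟩

/-- `w` maps the fundamental roots in `J` to positive roots. -/
def PosOn (R : RootData D) (w : Equiv.Perm (Fin D.nroots)) (J : Finset ℕ) : Prop :=
  ∀ i : Fin D.rank, i.val ∈ J → D.IsPosRoot (w (sroot R i))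

/-- `w` maps the fundamental roots in `J` to negative roots. -/
def NegOn (R : RootData D) (w : Equiv.Perm (Fin D.nroots)) (J : Finset ℕ) : Prop :=
  ∀ i : Fin D.rank, i.val ∈ J → D.IsNegRoot (w (sroot R i))

/-- The ascents of `w` inside `A`. -/
noncomputable def asc (R : RootData D) (w : Equiv.Perm (Fin D.nroots)) (A : Finset ℕ) : Finset ℕ :=
  A.filter fun j => ∀ h : j < D.rank, D.IsPosRoot (w (sroot R ⟨j, h⟩))

theorem mem_fs {J : Finset ℕ} {i : Fin D.rank} : i ∈ fs D J ↔ i.val ∈ J := by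
  rw [mem_finSet]; rfl

theorem WS_mono {J K : Finset ℕ} (h : K ⊆ J) : WS hR K ≤ WS hR J :=
  hR.weylSub_mono fun _ hi => mem_fs.2 (h (mem_fs.1 hi))

theorem WS_le (J : Finset ℕ) : WS hR J ≤ hR.weyl := hR.weylSub_le _

theorem WS_range : WS hR (Finset.range D.rank) = hR.weyl := by
  have : fs D (Finset.range D.rank) = Finset.univ := by
    ext i
    simp [mem_fs, i.isLt]
  rw [WS, this, hR.weylSub_univ]

include hR in
theorem pos_or_negOn {w : Equiv.Perm (Fin D.nroots)} (i : Fin D.rank) :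
    D.IsPosRoot (w (sroot R i)) ∨ D.IsNegRoot (w (sroot R i)) := R.pos_or_neg (w _).isLt

include hR in
/-- An element positive on `J` keeps the positive roots supported by `J` positive. -/
theorem apply_pos {w : Equiv.Perm (Fin D.nroots)} (hw : w ∈ hR.weyl) {J : Finset ℕ}
    (h : PosOn R w J) {s : Fin D.nroots} (hs : D.IsPosRoot s)
    (hsupp : ∀ m : Fin D.rank, m.val ∉ J → R.α s m = 0) : D.IsPosRoot (w s) :=
  hR.apply_pos_of_simple hw hs fun j hj => h j (by_contra fun hn => hj (hsupp j hn))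

include hR in
theorem invSet_supp' {J : Finset ℕ} {w : Equiv.Perm (Fin D.nroots)} (hw : w ∈ WS hR J)
    {s : Fin D.nroots} (hs : s ∈ hR.invSet w) (m : Fin D.rank) (hm : m.val ∉ J) : R.α s m = 0 :=
  hR.invSet_supp hw hs fun h => hm (mem_fs.1 h)

theorem invSet_one : hR.invSet 1 = ∅ :=
  Finset.eq_empty_iff_forall_notMem.2 fun _ hs =>
    R.not_pos_and_neg (hR.mem_invSet.1 hs).1 (hR.mem_invSet.1 hs).2

include hR in
theorem eq_one_of_posOn {A : Finset ℕ} {w : Equiv.Perm (Fin D.nroots)} (hw : w ∈ WS hR A)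
    (h : PosOn R w A) : w = 1 := by
  refine hR.eq_one_of_invSet_eq_empty (WS_le hR A hw) (Finset.eq_empty_iff_forall_notMem.2 fun s hs => ?_)
  exact R.not_pos_and_neg (apply_pos hR (WS_le hR A hw) h (hR.mem_invSet.1 hs).1
    (invSet_supp' hR hw hs)) (hR.mem_invSet.1 hs).2

include hR in
/-- Two minimal representatives of the same coset are equal. -/
theorem min_unique {J : Finset ℕ} {x u : Equiv.Perm (Fin D.nroots)} (hx : x ∈ hR.weyl)
    (hu : u ∈ WS hR J) (h1 : PosOn R x J) (h2 : PosOn R (x * u) J) : u = 1 := by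
  have hmin : ∀ y, y ∈ hR.weyl → PosOn R y J → hR.IsMin Finset.univ (fs D J) y := fun y hy hy' =>
    ⟨hR.weylSub_univ.symm ▸ hy, fun i hi => hy' i (mem_fs.1 hi)⟩
  have e1 := hR.card_invSet_min_mul (hmin x hx h1) u hu
  have e2 := hR.card_invSet_min_mul (hmin _ (mul_mem hx (WS_le hR J hu)) h2) u⁻¹ (inv_mem hu)
  rw [mul_inv_cancel_right] at e2
  exact hR.eq_one_of_invSet_eq_empty (WS_le hR J hu) (Finset.card_eq_zero.1 (by omega))

include hR in
theorem exists_min {J : Finset ℕ} {w : Equiv.Perm (Fin D.nroots)} (hw : w ∈ hR.weyl) :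
    ∃ x u, x ∈ hR.weyl ∧ PosOn R x J ∧ u ∈ WS hR J ∧ w = x * u := by
  obtain ⟨x, u, ⟨hx, hx'⟩, hu, he⟩ :=
    hR.exists_min_mul (Finset.subset_univ (fs D J)) w (hR.weylSub_univ.symm ▸ hw)
  exact ⟨x, u, hR.weylSub_le _ hx, fun i hi => hx' i (mem_fs.2 hi), hu, he⟩

include hR in
theorem card_min_mul {J : Finset ℕ} {x u : Equiv.Perm (Fin D.nroots)} (hx : x ∈ hR.weyl)
    (h1 : PosOn R x J) (hu : u ∈ WS hR J) :
    (hR.invSet (x * u)).card = (hR.invSet x).card + (hR.invSet u).card :=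
  hR.card_invSet_min_mul (J := Finset.univ)
    ⟨hR.weylSub_univ.symm ▸ hx, fun i hi => h1 i (mem_fs.1 hi)⟩ u hu

include hR in
theorem negOn_apply {J : Finset ℕ} {w : Equiv.Perm (Fin D.nroots)} (hw : w ∈ hR.weyl)
    (h : NegOn R w J) {s : Fin D.nroots} (hs : D.IsPosRoot s)
    (hsupp : ∀ m : Fin D.rank, m.val ∉ J → R.α s m = 0) : D.IsNegRoot (w s) := by
  refine (R.isNeg_iff _).2 ⟨(w s).isLt, ?_⟩
  rw [hR.α_weyl w hw s]
  refine Finset.sum_nonpos fun j _ => ?_
  by_cases hj : j.val ∈ J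
  · exact smul_nonpos_of_nonneg_of_nonpos (((R.isPos_iff _).1 hs).2 j) ((R.isNeg_iff _).1 (h j hj)).2
  · rw [hsupp j hj, zero_smul]

include hR in
/-- The element of a parabolic subgroup negative on all of its fundamental roots is unique. -/
theorem negOn_unique {J : Finset ℕ} {u v : Equiv.Perm (Fin D.nroots)} (hu : u ∈ WS hR J)
    (hv : v ∈ WS hR J) (hun : NegOn R u J) (hvn : NegOn R v J) : u = v := by
  have hvW := WS_le hR J hv
  have huW := WS_le hR J hu
  have hmem : u * v⁻¹ ∈ WS hR J := mul_mem hu (inv_mem hv)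
  suffices u * v⁻¹ = 1 from mul_inv_eq_one.1 this
  refine eq_one_of_posOn hR hmem fun i hi => ?_
  obtain ⟨s, hs⟩ : ∃ s, v s = sroot R i := v.surjective _
  have hinv : v⁻¹ (sroot R i) = s := by rw [← hs]; simp
  rw [Equiv.Perm.mul_apply, hinv]
  have hsupp : ∀ m : Fin D.rank, m.val ∉ J → R.α s m = 0 := by
    intro m hm
    have h1 := hR.weylSub_fix hv s m (fun h => hm (mem_fs.1 h))
    rw [hs] at h1
    rw [← h1]
    show R.α (D.simple i.val) m = 0
    rw [R.α_simple, Pi.single_eq_of_ne]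
    exact fun e => hm (e ▸ hi)
  rcases R.pos_or_neg s.isLt with h | h
  · have h2 := negOn_apply hR hvW hvn h hsupp
    rw [hs] at h2
    exact absurd h2 (R.not_pos_and_neg (R.simple_pos i))
  · obtain ⟨t, ht⟩ : ∃ t : Fin D.nroots, (t : ℕ) = D.neg s := ⟨⟨D.neg s, R.neg_lt s s.isLt⟩, rfl⟩
    have htp : D.IsPosRoot t := by rw [ht]; exact (R.isPos_neg_iff s.isLt).2 h
    have h3 := negOn_apply hR huW hun htp (fun m hm => by
      rw [ht, R.α_neg s s.isLt, Pi.neg_apply, hsupp m hm, neg_zero])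
    have hts : t = ⟨D.neg s, R.neg_lt s s.isLt⟩ := Fin.ext ht
    rw [hts, hR.apply_neg huW s, R.isNeg_neg_iff (u s).isLt] at h3
    exact h3

include hR in
theorem exists_negOn (J : Finset ℕ) : ∃ w ∈ WS hR J, NegOn R w J := by
  obtain ⟨w, hw, hmax⟩ := (Finset.univ.filter fun w => w ∈ WS hR J).exists_max_image
    (fun w => (hR.invSet w).card) ⟨1, by simp⟩
  rw [Finset.mem_filter] at hw
  refine ⟨w, hw.2, fun i hi => (pos_or_negOn hR i).resolve_left fun hp => ?_⟩
  have h1 := hR.invSet_mul_sPerm (WS_le hR J hw.2) i hp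
  have h2 := hmax (w * hR.sPerm i)
    (Finset.mem_filter.2 ⟨Finset.mem_univ _, mul_mem hw.2 (hR.sPerm_mem_sub (mem_fs.2 hi))⟩)
  omega

include hR in
theorem negOn_inv {J : Finset ℕ} {w : Equiv.Perm (Fin D.nroots)} (hw : w ∈ WS hR J)
    (h : NegOn R w J) : w⁻¹ = w := by
  refine negOn_unique hR (inv_mem hw) hw (fun i hi => ?_) h
  rcases pos_or_negOn hR (w := w⁻¹) i with hp | hn
  · exfalso
    have hsupp : ∀ m : Fin D.rank, m.val ∉ J → R.α (w⁻¹ (sroot R i)) m = 0 := fun m hm => by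
      have h1 := hR.weylSub_fix (inv_mem hw) (sroot R i) m fun h => hm (mem_fs.1 h)
      rw [h1]
      show R.α (D.simple i.val) m = 0
      rw [R.α_simple, Pi.single_eq_of_ne]
      exact fun e => hm (e ▸ hi)
    have h2 := negOn_apply hR (WS_le hR J hw) h hp hsupp
    rw [Equiv.Perm.inv_def, Equiv.apply_symm_apply] at h2
    exact R.not_pos_and_neg (R.simple_pos i) h2
  · exact hn

/-- The functional that is zero exactly on the fundamental roots in `K`. -/
def domFun (D : ChevalleyDatum) (K : Finset ℕ) : Fin D.rank → ℤ :=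
  fun i => if i.val ∈ K then 0 else 1

include hR in
/-- Only one functional in an orbit of a parabolic subgroup is dominant for it. -/
theorem dom_unique {J : Finset ℕ} : ∀ a ∈ WS hR J, ∀ g : Fin D.rank → ℤ,
    (∀ i : Fin D.rank, i.val ∈ J → 0 ≤ g i) →
    (∀ i : Fin D.rank, i.val ∈ J → 0 ≤ hR.moveFun a g i) → hR.moveFun a g = g := by
  suffices ∀ n, ∀ a ∈ WS hR J, (hR.invSet a⁻¹).card = n → ∀ g : Fin D.rank → ℤ,
      (∀ i : Fin D.rank, i.val ∈ J → 0 ≤ g i) →
      (∀ i : Fin D.rank, i.val ∈ J → 0 ≤ hR.moveFun a g i) → hR.moveFun a g = g from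
    fun a ha => this _ a ha rfl
  intro n
  induction n using Nat.strong_induction_on with
  | _ n ih =>
  intro a ha hn g hg hag
  by_cases h0 : hR.invSet a⁻¹ = ∅
  · have := hR.eq_one_of_invSet_eq_empty (WS_le hR J (inv_mem ha)) h0
    rw [inv_eq_one] at this
    rw [this, hR.moveFun_one]
  obtain ⟨i, hiJ, hi⟩ := hR.weylSub_exists_neg (inv_mem ha) h0
  rw [mem_fs] at hiJ
  -- the moved functional is zero at `i`
  have hsupp : ∀ m : Fin D.rank, m.val ∉ J → R.α (a⁻¹ (sroot R i)) m = 0 := fun m hm => by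
    have h1 := hR.weylSub_fix (inv_mem ha) (sroot R i) m fun h => hm (mem_fs.1 h)
    rw [h1]
    show R.α (D.simple i.val) m = 0
    rw [R.α_simple, Pi.single_eq_of_ne]
    exact fun e => hm (e ▸ hiJ)
  have hle : hR.moveFun a g i ≤ 0 := by
    show pairing g (R.α (a⁻¹ (sroot R i))) ≤ 0
    rw [pairing_apply]
    refine Finset.sum_nonpos fun m _ => ?_
    by_cases hm : m.val ∈ J
    · exact mul_nonpos_of_nonneg_of_nonpos (hg m hm) (((R.isNeg_iff _).1 hi).2 m)
    · rw [hsupp m hm, mul_zero]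
  have hzero : hR.moveFun a g i = 0 := le_antisymm hle (hag i hiJ)
  -- so the fundamental reflection fixes it
  have hfix : hR.moveFun (hR.sPerm i) (hR.moveFun a g) = hR.moveFun a g := by
    generalize hR.moveFun a g = G at hzero ⊢
    funext m
    simp only [ReflData.moveFun]
    rw [inv_eq_of_mul_eq_one_right (hR.sPerm_mul_self i), hR.sPerm_val, hR.α_refl i _ (R.simple_lt m),
      map_sub, map_zsmul, R.α_simple, pairing_single, pairing_single, hzero, smul_zero, sub_zero]
  rw [← hR.moveFun_mul (WS_le hR J ha)] at hfix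
  rw [← hfix]
  refine ih _ ?_ (hR.sPerm i * a) (mul_mem (hR.sPerm_mem_sub (mem_fs.2 hiJ)) ha) rfl g hg (hfix ▸ hag)
  rw [← hn, mul_inv_rev, inv_eq_of_mul_eq_one_right (hR.sPerm_mul_self i)]
  have := hR.invSet_mul_sPerm_of_neg (WS_le hR J (inv_mem ha)) i hi
  omega

include hR in
/-- The stabilizer of the functional of `K` is the parabolic subgroup of `K`. -/
theorem mem_WS_of_moveFun {K : Finset ℕ} : ∀ a ∈ hR.weyl,
    hR.moveFun a (domFun D K) = domFun D K → a ∈ WS hR K := by
  suffices ∀ n, ∀ a ∈ hR.weyl, (hR.invSet a⁻¹).card = n →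
      hR.moveFun a (domFun D K) = domFun D K → a ∈ WS hR K from fun a ha => this _ a ha rfl
  intro n
  induction n using Nat.strong_induction_on with
  | _ n ih =>
  intro a ha hn hfix
  by_cases h0 : hR.invSet a⁻¹ = ∅
  · have := hR.eq_one_of_invSet_eq_empty (inv_mem ha) h0
    rw [inv_eq_one] at this
    rw [this]; exact one_mem _
  obtain ⟨i, hi⟩ := hR.exists_simple_neg_of_ne_one (inv_mem ha) h0
  have hiK : i.val ∈ K := by
    by_contra hiK
    have h1 := congrFun hfix i
    have hle : hR.moveFun a (domFun D K) i ≤ 0 := by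
      show pairing (domFun D K) (R.α (a⁻¹ (sroot R i))) ≤ 0
      rw [pairing_apply]
      refine Finset.sum_nonpos fun m _ => mul_nonpos_of_nonneg_of_nonpos ?_ (((R.isNeg_iff _).1 hi).2 m)
      unfold domFun
      split_ifs <;> norm_num
    rw [h1, domFun, if_neg hiK] at hle
    omega
  have hs : hR.moveFun (hR.sPerm i) (domFun D K) = domFun D K := by
    funext m
    simp only [ReflData.moveFun]
    rw [inv_eq_of_mul_eq_one_right (hR.sPerm_mul_self i), hR.sPerm_val, hR.α_refl i _ (R.simple_lt m),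
      map_sub, map_zsmul, R.α_simple, pairing_single, pairing_single, show domFun D K i = 0 from if_pos hiK,
      smul_zero, sub_zero]
  have hmem := ih _ ?_ (hR.sPerm i * a) (mul_mem (hR.sPerm_mem i) ha) rfl
    (by rw [hR.moveFun_mul ha, hfix, hs])
  · have := mul_mem (hR.sPerm_mem_sub (mem_fs.2 hiK) (J := fs D K)) hmem
    rwa [← mul_assoc, hR.sPerm_mul_self i, one_mul] at this
  · rw [← hn, mul_inv_rev, inv_eq_of_mul_eq_one_right (hR.sPerm_mul_self i)]
    have := hR.invSet_mul_sPerm_of_neg (inv_mem ha) i hi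
    omega

include hR in
/-- Doubly minimal representatives of double cosets are unique. -/
theorem dm_unique {J K : Finset ℕ} {w a b : Equiv.Perm (Fin D.nroots)} (hw : w ∈ hR.weyl)
    (ha : a ∈ WS hR J) (hb : b ∈ WS hR K) (h1 : PosOn R w K) (h2 : PosOn R w⁻¹ J)
    (h1' : PosOn R (a * w * b) K) (h2' : PosOn R (a * w * b)⁻¹ J) : a * w * b = w := by
  have haW := WS_le hR J ha
  have hbW := WS_le hR K hb
  have hbfix : hR.moveFun b (domFun D K) = domFun D K := by
    funext i
    have h3 : ∀ m : Fin D.rank, domFun D K m * R.α (b⁻¹ (sroot R i)) m =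
        domFun D K m * R.α (sroot R i) m := fun m => by
      by_cases hm : m.val ∈ K
      · simp [domFun, hm]
      · rw [hR.weylSub_fix (inv_mem hb) _ m fun h => hm (mem_fs.1 h)]
    show pairing (domFun D K) (R.α (b⁻¹ (sroot R i))) = _
    rw [pairing_apply, Finset.sum_congr rfl fun m _ => h3 m, ← pairing_apply]
    show pairing _ (R.α (D.simple i.val)) = _
    rw [R.α_simple, pairing_single]
  have hdom : ∀ y, PosOn R y⁻¹ J → ∀ i : Fin D.rank, i.val ∈ J → 0 ≤ hR.moveFun y (domFun D K) i := by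
    intro y hy i hi
    show 0 ≤ pairing (domFun D K) (R.α (y⁻¹ (sroot R i)))
    rw [pairing_apply]
    refine Finset.sum_nonneg fun m _ => mul_nonneg ?_ (((R.isPos_iff _).1 (hy i hi)).2 m)
    unfold domFun
    split_ifs <;> norm_num
  have e1 : hR.moveFun (a * w * b) (domFun D K) = hR.moveFun a (hR.moveFun w (domFun D K)) := by
    rw [hR.moveFun_mul hbW, hbfix, hR.moveFun_mul hw]
  have e2 := dom_unique hR a ha _ (hdom w h2) (e1 ▸ hdom _ h2')
  rw [e2] at e1
  have hu := mem_WS_of_moveFun hR (K := K) (w⁻¹ * (a * w * b))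
    (mul_mem (inv_mem hw) (mul_mem (mul_mem haW hw) hbW))
    (by rw [hR.moveFun_mul (mul_mem (mul_mem haW hw) hbW), e1, ← hR.moveFun_mul hw, inv_mul_cancel,
      hR.moveFun_one])
  have := min_unique hR hw hu h1 (by rwa [mul_inv_cancel_left])
  exact (inv_mul_eq_one.1 this).symm

include hR in
theorem dm_exists (J K : Finset ℕ) {x : Equiv.Perm (Fin D.nroots)} (hx : x ∈ hR.weyl) :
    ∃ a ∈ WS hR J, ∃ b ∈ WS hR K, PosOn R (a * x * b) K ∧ PosOn R (a * x * b)⁻¹ J := by
  have hne : ∃ n, ∃ a ∈ WS hR J, ∃ b ∈ WS hR K, (hR.invSet (a * x * b)).card = n :=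
    ⟨_, 1, one_mem _, 1, one_mem _, rfl⟩
  obtain ⟨a, ha, b, hb, hab⟩ := Nat.find_spec hne
  have hW : a * x * b ∈ hR.weyl := mul_mem (mul_mem (WS_le hR J ha) hx) (WS_le hR K hb)
  refine ⟨a, ha, b, hb, fun i hi => (pos_or_negOn hR i).resolve_right fun hn => ?_,
    fun i hi => (pos_or_negOn hR i).resolve_right fun hn => ?_⟩
  · have h := hR.invSet_mul_sPerm_of_neg hW i hn
    have h' := Nat.find_min' hne ⟨a, ha, b * hR.sPerm i,
      mul_mem hb (hR.sPerm_mem_sub (mem_fs.2 hi)), by rw [← mul_assoc]⟩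
    omega
  · have h := hR.invSet_mul_sPerm_of_neg (inv_mem hW) i hn
    rw [show (a * x * b)⁻¹ * hR.sPerm i = (hR.sPerm i * a * x * b)⁻¹ by
        rw [mul_assoc (hR.sPerm i) a, mul_assoc (hR.sPerm i), mul_inv_rev (hR.sPerm i),
          inv_eq_of_mul_eq_one_right (hR.sPerm_mul_self i)],
      hR.card_invSet_inv hW, hR.card_invSet_inv] at h
    · have h' := Nat.find_min' hne ⟨hR.sPerm i * a,
        mul_mem (hR.sPerm_mem_sub (mem_fs.2 hi)) ha, b, hb, rfl⟩
      omega
    · exact mul_mem (mul_mem (mul_mem (hR.sPerm_mem i) (WS_le hR J ha)) hx) (WS_le hR K hb)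

theorem subset_asc {w : Equiv.Perm (Fin D.nroots)} {A K : Finset ℕ}
    (hA : A ⊆ Finset.range D.rank) : K ⊆ asc R w A ↔ K ⊆ A ∧ PosOn R w K := by
  constructor
  · intro h
    refine ⟨fun j hj => (Finset.mem_filter.1 (h hj)).1, fun i hi => ?_⟩
    exact (Finset.mem_filter.1 (h hi)).2 i.isLt
  · rintro ⟨h1, h2⟩ j hj
    exact Finset.mem_filter.2 ⟨h1 hj, fun hlt => h2 ⟨j, hlt⟩ hj⟩

include hR in
theorem asc_eq_empty {w : Equiv.Perm (Fin D.nroots)} {A : Finset ℕ} (hA : A ⊆ Finset.range D.rank) :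
    asc R w A = ∅ ↔ NegOn R w A := by
  rw [Finset.eq_empty_iff_forall_notMem]
  constructor
  · intro h i hi
    exact (pos_or_negOn hR i).resolve_left fun hp => h i (Finset.mem_filter.2 ⟨hi, fun _ => hp⟩)
  · intro h j hj
    rw [asc, Finset.mem_filter] at hj
    have hlt := Finset.mem_range.1 (hA hj.1)
    exact R.not_pos_and_neg (hj.2 hlt) (h ⟨j, hlt⟩ hj.1)

include hR in
/-- The alternating sum over the subsets on which `w` is positive. -/
theorem sum_posOn (w : Equiv.Perm (Fin D.nroots)) {A : Finset ℕ} (hA : A ⊆ Finset.range D.rank) :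
    (∑ K ∈ A.powerset, if PosOn R w K then (-1 : ℤ) ^ K.card else 0) =
      if NegOn R w A then 1 else 0 := by
  rw [← Finset.sum_filter,
    show A.powerset.filter (fun K => PosOn R w K) = (asc R w A).powerset by
      ext K; simp [subset_asc hA],
    Finset.sum_powerset_neg_one_pow_card]
  simp only [asc_eq_empty hR hA]

end CfsgLib.SteinbergChar
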